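import Groth.Agent.Lib.CSA.Basic

/-!
# Skolem–Noether, centraliser dimension
-/

namespace Groth.Agent.Lib.CSA.SkolemNoether

set_option linter.style.haveILetI false

open scoped TensorProduct
open TensorProduct MulOpposite Groth.Agent.Lib.CSA.Simple

universe u v w

variable {k : Type u} [Field k] {A : Type v} [Ring A] [Algebra k A]
  {B : Type w} [Ring B] [Algebra k B]

/-- The action of `B ⊗ Aᵐᵒᵖ` on `A` through an algebra map `B → A`. -/
noncomputable def twist (f : B →ₐ[k] A) : B ⊗[k] Aᵐᵒᵖ →ₐ[k] Module.End k A :=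
  (AlgHom.mulLeftRight k A).comp (Algebra.TensorProduct.map f (AlgHom.id k Aᵐᵒᵖ))

@[simp] theorem twist_tmul (f : B →ₐ[k] A) (b : B) (a : Aᵐᵒᵖ) (x : A) :
    twist f (b ⊗ₜ a) x = f b * x * a.unop := by simp [twist]

/-- `A` viewed as a module over `B ⊗ Aᵐᵒᵖ` through `f`. -/
@[reducible] noncomputable def twistModule (f : B →ₐ[k] A) : Module (B ⊗[k] Aᵐᵒᵖ) A :=
  Module.compHom A (twist f).toRingHom

theorem twistModule_smul (f : B →ₐ[k] A) (z : B ⊗[k] Aᵐᵒᵖ) (x : A) :
    letI := twistModule f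
    z • x = twist f z x := rfl

/-- A copy of `A` with the action of `B ⊗ Aᵐᵒᵖ` through `f`. -/
def Tw (_f : B →ₐ[k] A) : Type v := A

noncomputable instance instAddCommGroupTw (f : B →ₐ[k] A) : AddCommGroup (Tw f) :=
  inferInstanceAs (AddCommGroup A)
noncomputable instance instModuleBaseTw (f : B →ₐ[k] A) : Module k (Tw f) :=
  inferInstanceAs (Module k A)
noncomputable instance instModuleTw (f : B →ₐ[k] A) : Module (B ⊗[k] Aᵐᵒᵖ) (Tw f) :=
  twistModule f
instance instFiniteTw [FiniteDimensional k A] (f : B →ₐ[k] A) : FiniteDimensional k (Tw f) :=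
  inferInstanceAs (FiniteDimensional k A)
instance instTowerTw (f : B →ₐ[k] A) : IsScalarTower k (B ⊗[k] Aᵐᵒᵖ) (Tw f) :=
  ⟨fun c z x => LinearMap.congr_fun (map_smul (twist f) c z) (x : A)⟩

theorem skolemNoether [Algebra.IsCentral k A] [IsSimpleRing A] [FiniteDimensional k A]
    [IsSimpleRing B] [FiniteDimensional k B] (f g : B →ₐ[k] A) :
    ∃ u : Aˣ, ∀ b, g b = u * f b * ↑u⁻¹ := by
  haveI : IsSimpleRing (B ⊗[k] Aᵐᵒᵖ) := isSimpleRing_tensor_right k B Aᵐᵒᵖ
  have key : ∃ φ : A ≃ₗ[k] A, ∀ (z : B ⊗[k] Aᵐᵒᵖ) (x : A), φ (twist f z x) = twist g z (φ x) := by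
    obtain ⟨e⟩ := @SimpleModule.nonempty_linearEquiv_of_finrank_eq k _ (B ⊗[k] Aᵐᵒᵖ) _ _ _ _

      (Tw f) _ _ _ (instTowerTw f) (instFiniteTw f) (Tw g) _ _ _ (instTowerTw g) (instFiniteTw g) rfl
    exact ⟨(e.restrictScalars k : Tw f ≃ₗ[k] Tw g), fun z x => e.map_smul z x⟩
  obtain ⟨φ, hφ⟩ := key
  have hr : ∀ x a : A, φ (x * a) = φ x * a := fun x a => by
    have h := hφ (1 ⊗ₜ op a) x
    simpa using h
  have hl : ∀ (b : B) (x : A), φ (f b * x) = g b * φ x := fun b x => by
    have h := hφ (b ⊗ₜ 1) x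
    simpa using h
  have hu : ∀ x, φ x = φ 1 * x := fun x => by simpa using hr 1 x
  have hone : φ 1 * φ.symm 1 = 1 := by rw [← hu, LinearEquiv.apply_symm_apply]
  have hone' : φ.symm 1 * φ 1 = 1 := φ.injective (by rw [hu, ← mul_assoc, hone, one_mul])
  refine ⟨⟨φ 1, φ.symm 1, hone, hone'⟩, fun b => ?_⟩
  show g b = φ 1 * f b * φ.symm 1
  have h := hl b 1
  rw [mul_one, hu (f b)] at h
  rw [h, mul_assoc, hone, mul_one]

/-- Every algebra automorphism of a central simple algebra is inner. -/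
theorem exists_unit_conj_algEquiv [Algebra.IsCentral k A] [IsSimpleRing A] [FiniteDimensional k A]
    (e : A ≃ₐ[k] A) : ∃ u : Aˣ, ∀ x, e x = u * x * ↑u⁻¹ :=
  skolemNoether (AlgHom.id k A) e.toAlgHom

/-- Dimension of the centraliser of a simple subalgebra. -/
theorem finrank_centralizer_mul [Algebra.IsCentral k A] [IsSimpleRing A] [FiniteDimensional k A]
    [IsSimpleRing B] [FiniteDimensional k B] (f : B →ₐ[k] A) :
    Module.finrank k (Subalgebra.centralizer k (f.range : Set A)) * Module.finrank k B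
      = Module.finrank k A := by
  haveI : IsSimpleRing (B ⊗[k] Aᵐᵒᵖ) := isSimpleRing_tensor_right k B Aᵐᵒᵖ
  letI : Module (B ⊗[k] Aᵐᵒᵖ) A := twistModule f
  haveI : IsScalarTower k (B ⊗[k] Aᵐᵒᵖ) A := ⟨fun c z x => by
    show twist f (c • z) x = c • twist f z x
    rw [map_smul, LinearMap.smul_apply]⟩
  haveI : SMulCommClass (B ⊗[k] Aᵐᵒᵖ) k A := ⟨fun z c x => by
    show twist f z (c • x) = c • twist f z x
    rw [map_smul]⟩
  have h1 := SimpleModule.finrank_end_mul_finrank (k := k) (R := B ⊗[k] Aᵐᵒᵖ) A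
  let toC : Module.End (B ⊗[k] Aᵐᵒᵖ) A →ₗ[k] Subalgebra.centralizer k (f.range : Set A) :=
    { toFun := fun φ => ⟨φ 1, by
        rw [Subalgebra.mem_centralizer_iff]
        rintro _ ⟨b, rfl⟩
        have e1 := φ.map_smul (b ⊗ₜ[k] (1 : Aᵐᵒᵖ)) 1
        have e2 := φ.map_smul ((1 : B) ⊗ₜ[k] op (f b)) 1
        simp only [twistModule_smul, twist_tmul, map_one, unop_one, unop_op, mul_one, one_mul]
          at e1 e2
        exact e1.symm.trans e2⟩
      map_add' := fun φ ψ => rfl
      map_smul' := fun c φ => rfl }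
  have hbij : Function.Bijective toC := by
    constructor
    · intro φ ψ h
      have h1 : φ 1 = ψ 1 := congrArg Subtype.val h
      ext x
      have e1 := φ.map_smul ((1 : B) ⊗ₜ[k] op x) 1
      have e2 := ψ.map_smul ((1 : B) ⊗ₜ[k] op x) 1
      simp only [twistModule_smul, twist_tmul, map_one, unop_op, mul_one, one_mul] at e1 e2
      rw [e1, e2, h1]
    · rintro ⟨c, hc⟩
      rw [Subalgebra.mem_centralizer_iff] at hc
      refine ⟨{ toFun := fun x => c * x, map_add' := mul_add c, map_smul' := fun z x => ?_ }, ?_⟩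
      · simp only [twistModule_smul, RingHom.id_apply]
        induction z using TensorProduct.induction_on with
        | zero => simp
        | tmul b a =>
          have := hc (f b) ⟨b, rfl⟩
          simp only [twist_tmul, ← mul_assoc, this]
        | add y z hy hz => simp [mul_add, hy, hz]
      · exact Subtype.ext (mul_one c)
  rw [(LinearEquiv.ofBijective toC hbij).finrank_eq, Module.finrank_tensorProduct,
    Basic.finrank_op] at h1
  have hpos : 0 < Module.finrank k A := Module.finrank_pos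
  refine Nat.eq_of_mul_eq_mul_right hpos ?_
  rw [mul_assoc, h1, sq]

end Groth.Agent.Lib.CSA.SkolemNoether
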