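import Groth.Agent.Lib.CSA.Centralizer
import Mathlib.RingTheory.SimpleModule.IsAlgClosed
import Mathlib.RingTheory.SimpleRing.Matrix
import Mathlib.FieldTheory.IsAlgClosed.AlgebraicClosure
import Mathlib.FieldTheory.JacobsonNoether
import Mathlib.FieldTheory.SeparableClosure
import Mathlib.FieldTheory.SeparableDegree
import Mathlib.RingTheory.Finiteness.ModuleFinitePresentation
import Mathlib.LinearAlgebra.Dimension.Constructions
import Mathlib.LinearAlgebra.FiniteDimensional.Lemmas
import Mathlib.RingTheory.TensorProduct.Finite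

/-!
# Central division algebras
-/

open scoped TensorProduct

namespace Groth.Agent.Lib.CSA.Division

universe u v w

variable {k : Type u} [Field k]

theorem isSquare_finrank (A : Type v) [Ring A] [Algebra k A] [Algebra.IsCentral k A] [IsSimpleRing A]
    [FiniteDimensional k A] : IsSquare (Module.finrank k A) := by
  let K := AlgebraicClosure k
  have : IsSimpleRing (K ⊗[k] A) := Tensor.isSimpleRing_tensor
  obtain ⟨n, hn, ⟨e⟩⟩ := IsSimpleRing.exists_algEquiv_matrix_of_isAlgClosed K (K ⊗[k] A)
  refine ⟨n, ?_⟩
  rw [← Module.finrank_baseChange (R := K) (S := k) (M' := A), e.toLinearEquiv.finrank_eq,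
    Module.finrank_matrix]
  simp

theorem isCentral_of_matrix {n : ℕ} [NeZero n] {D : Type v} [Ring D] [Algebra k D]
    [Algebra.IsCentral k (Matrix (Fin n) (Fin n) D)] : Algebra.IsCentral k D where
  out z hz := by
    have h : Matrix.scalar (Fin n) z ∈ Subalgebra.center k (Matrix (Fin n) (Fin n) D) :=
      Subalgebra.mem_center_iff.mpr fun M => (Matrix.scalar_commute z
        (fun r => (Subalgebra.mem_center_iff.mp hz r).symm) M).eq.symm
    rw [Algebra.IsCentral.center_eq_bot, Algebra.mem_bot] at h
    obtain ⟨c, hc⟩ := h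
    exact ⟨c, by simpa [Matrix.algebraMap_matrix_apply] using congr($hc 0 0)⟩

/-- Wedderburn structure of a finite central simple algebra. -/
theorem exists_matrix (A : Type v) [Ring A] [Algebra k A] [Algebra.IsCentral k A] [IsSimpleRing A]
    [FiniteDimensional k A] :
    ∃ (n : ℕ) (_ : NeZero n) (D : Type v) (_ : DivisionRing D) (_ : Algebra k D)
      (_ : FiniteDimensional k D) (_ : Algebra.IsCentral k D),
      Nonempty (A ≃ₐ[k] Matrix (Fin n) (Fin n) D) := by
  have : IsArtinianRing A := IsArtinianRing.of_finite k A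
  obtain ⟨n, hn, D, i1, i2, i3, ⟨e⟩⟩ := IsSimpleRing.exists_algEquiv_matrix_divisionRing_finite k A
  have := Algebra.IsCentral.of_algEquiv k _ _ e
  exact ⟨n, hn, D, i1, i2, i3, isCentral_of_matrix (n := n), ⟨e⟩⟩

section Unique

variable {D : Type v} [DivisionRing D] [Algebra k D] {D' : Type w} [DivisionRing D'] [Algebra k D']
  [FiniteDimensional k D]

include k in
theorem card_idempotents_le {n m : ℕ} (P : Fin m → Matrix (Fin n) (Fin n) D)
    (h0 : ∀ i, P i ≠ 0) (h1 : ∀ i, P i * P i = P i) (h2 : ∀ i j, i ≠ j → P i * P j = 0) : m ≤ n := by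
  have hv : ∀ i, ∃ v : Fin n → D, v ≠ 0 ∧ (P i).mulVec v = v := fun i => by
    obtain ⟨a, b, hab⟩ : ∃ a b, P i a b ≠ 0 := by
      by_contra! h
      exact h0 i (Matrix.ext h)
    refine ⟨(P i).mulVec (Pi.single b 1), fun h => hab ?_, ?_⟩
    · simpa [Matrix.mulVec_single] using congr_fun h a
    · rw [Matrix.mulVec_mulVec, h1]
  choose v hv0 hv1 using hv
  let Φ : (Fin m → D) →ₗ[k] (Fin n → D) :=
    { toFun := fun c a => ∑ i, v i a * c i
      map_add' := fun c d => by ext a; simp [mul_add, Finset.sum_add_distrib]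
      map_smul' := fun r c => by ext a; simp [Finset.smul_sum] }
  have hinj : Function.Injective Φ := by
    rw [← LinearMap.ker_eq_bot, LinearMap.ker_eq_bot']
    intro c hc
    funext j
    have hj : ∀ i, (P j).mulVec (v i) = if i = j then v j else 0 := fun i => by
      by_cases h : i = j
      · subst h; simp [hv1]
      · rw [if_neg h, ← hv1 i, Matrix.mulVec_mulVec, h2 j i (Ne.symm h), Matrix.zero_mulVec]
    obtain ⟨a, ha⟩ := Function.ne_iff.mp (hv0 j)
    have h : ∑ b, P j a b * Φ c b = 0 := by simp [hc]
    have h' : ∑ b, P j a b * Φ c b = ∑ i, (P j).mulVec (v i) a * c i := by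
      show ∑ b, P j a b * (∑ i, v i b * c i) = _
      simp only [Matrix.mulVec, dotProduct, Finset.mul_sum, Finset.sum_mul, mul_assoc]
      exact Finset.sum_comm
    rw [h'] at h
    simp only [hj] at h
    have : v j a * c j = 0 := by
      simpa [ite_apply, ite_mul] using h
    exact (mul_eq_zero.mp this).resolve_left ha
  have h := LinearMap.finrank_le_finrank_of_injective hinj
  rw [Module.finrank_pi_fintype, Module.finrank_pi_fintype] at h
  simp only [Finset.sum_const, Finset.card_univ, Fintype.card_fin, smul_eq_mul] at h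
  exact Nat.le_of_mul_le_mul_right h Module.finrank_pos

theorem size_le {n m : ℕ} (e : Matrix (Fin n) (Fin n) D ≃ₐ[k] Matrix (Fin m) (Fin m) D') : m ≤ n :=
  card_idempotents_le (k := k) (fun i => e.symm (Matrix.single i i 1))
    (fun i h => by
      have : Matrix.single i i (1 : D') = 0 := e.symm.injective (h.trans e.symm.map_zero.symm)
      simpa using congr($this i i))
    (fun i => by rw [← map_mul, Matrix.single_mul_single_same, one_mul])
    (fun i j hij => by rw [← map_mul, Matrix.single_mul_single_of_ne _ _ _ _ hij, map_zero])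

variable [FiniteDimensional k D'] [Algebra.IsCentral k D]

theorem divisionRing_unique {n m : ℕ} (hn : n ≠ 0)
    (e : Matrix (Fin n) (Fin n) D ≃ₐ[k] Matrix (Fin m) (Fin m) D') : Nonempty (D ≃ₐ[k] D') := by
  obtain rfl : n = m := le_antisymm (size_le e.symm) (size_le e)
  have : NeZero n := ⟨hn⟩
  have : IsSimpleRing (Matrix (Fin n) (Fin n) k) := inferInstance
  obtain ⟨x, hx⟩ := Centralizer.skolem_noether
    (e.symm.toAlgHom.comp ((Algebra.ofId k D').mapMatrix (m := Fin n)))
    ((Algebra.ofId k D).mapMatrix (m := Fin n))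
  -- scalars of `D'` correspond to scalars of `D`
  let χ : Matrix (Fin n) (Fin n) D' →ₐ[k] Matrix (Fin n) (Fin n) D :=
    { toFun := fun M => (x⁻¹ : (Matrix (Fin n) (Fin n) D)ˣ) * e.symm M * (x : Matrix (Fin n) (Fin n) D)
      map_one' := by simp
      map_mul' := fun M N => by simp [mul_assoc]
      map_zero' := by simp
      map_add' := fun M N => by simp [mul_add, add_mul]
      commutes' := fun r => by
        rw [AlgEquiv.commutes, ← Algebra.commutes, mul_assoc, Units.inv_mul, mul_one] }
  have χ_bij : Function.Bijective χ := by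
    constructor
    · intro M N h
      exact e.symm.injective ((Units.isUnit x⁻¹).mul_left_cancel ((Units.isUnit x).mul_right_cancel h))
    · intro M
      refine ⟨e ((x : Matrix (Fin n) (Fin n) D) * M * (x⁻¹ : (Matrix (Fin n) (Fin n) D)ˣ)), ?_⟩
      show (x⁻¹ : (Matrix (Fin n) (Fin n) D)ˣ) * e.symm (e _) * (x : Matrix (Fin n) (Fin n) D) = M
      simp [← mul_assoc]
  have hfix : ∀ i j, χ (Matrix.single i j 1) = Matrix.single i j 1 := fun i j => by
    have h := hx (Matrix.single i j 1)
    change e.symm ((Matrix.single i j (1 : k)).map (Algebra.ofId k D')) = _ at h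
    simp only [AlgHom.mapMatrix_apply] at h
    show (x⁻¹ : (Matrix (Fin n) (Fin n) D)ˣ) * e.symm (Matrix.single i j 1) *
      (x : Matrix (Fin n) (Fin n) D) = _
    rw [Matrix.map_single, Matrix.map_single, map_one, map_one] at h
    rw [h]
    simp [← mul_assoc]
  let d : D' →ₐ[k] D :=
    { toFun := fun a => χ (Matrix.scalar (Fin n) a) 0 0
      map_one' := by simp
      map_mul' := fun a b => by
        have hs : ∀ a, χ (Matrix.scalar (Fin n) a) ∈ Set.range (Matrix.scalar (Fin n)) := fun a => by
          rw [Matrix.mem_range_scalar_iff_commute_single']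
          intro i j
          rw [← hfix i j, Commute, SemiconjBy, ← map_mul, ← map_mul]
          congr 1
          ext p q
          simp [Matrix.single, Matrix.of_apply]
        obtain ⟨a', ha'⟩ := hs a
        obtain ⟨b', hb'⟩ := hs b
        rw [map_mul, map_mul, ← ha', ← hb', ← map_mul]
        simp
      map_zero' := by simp
      map_add' := fun a b => by rw [map_add, map_add]; simp
      commutes' := fun r => by
        have : Matrix.scalar (Fin n) (algebraMap k D' r) = algebraMap k _ r := by
          ext p q; simp [Matrix.algebraMap_matrix_apply, Matrix.diagonal_apply]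
        rw [this, AlgHom.commutes]
        simp [Matrix.algebraMap_matrix_apply] }
  have hd : Function.Injective d := RingHom.injective d.toRingHom
  have hdim : Module.finrank k D' = Module.finrank k D := by
    have h := e.toLinearEquiv.finrank_eq
    rw [Module.finrank_matrix, Module.finrank_matrix] at h
    exact (Nat.eq_of_mul_eq_mul_left (by simp [Nat.pos_of_ne_zero hn]) h).symm
  exact ⟨(AlgEquiv.ofBijective d ⟨hd,
    (LinearMap.injective_iff_surjective_of_finrank_eq_finrank hdim (f := d.toLinearMap)).mp hd⟩).symm⟩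

end Unique

section MaxSubfield

variable {D : Type v} [DivisionRing D] [Algebra k D] [FiniteDimensional k D]

/-- A commutative subalgebra of a finite division algebra as a field. -/
@[implicit_reducible]
noncomputable def fieldOfComm (L : Subalgebra k D) (h : ∀ x ∈ L, ∀ y ∈ L, x * y = y * x) : Field L :=
  letI : CommRing L := { L.toRing with mul_comm := fun x y => Subtype.ext (h x.1 x.2 y.1 y.2) }
  haveI : IsDomain L := Function.Injective.isDomain L.toSubring.subtype Subtype.val_injective
  fieldOfFiniteDimensional k L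

theorem isSimpleRing_of_comm (L : Subalgebra k D) (h : ∀ x ∈ L, ∀ y ∈ L, x * y = y * x) : IsSimpleRing L :=
  letI := fieldOfComm L h
  inferInstance

/-- A maximal commutative subalgebra is its own centralizer. -/
theorem centralizer_eq_of_maximal {A : Type v} [Ring A] [Algebra k A] (L : Subalgebra k A)
    (hcomm : ∀ x ∈ L, ∀ y ∈ L, x * y = y * x)
    (hmax : ∀ L' : Subalgebra k A, (∀ x ∈ L', ∀ y ∈ L', x * y = y * x) → L ≤ L' → L' = L) :
    Subalgebra.centralizer k (L : Set A) = L := by
  refine le_antisymm (fun z hz => ?_) fun z hz => Subalgebra.mem_centralizer_iff k |>.mpr fun g hg =>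
    hcomm g hg z hz
  have hz' : ∀ g ∈ (L : Set A), g * z = z * g := Subalgebra.mem_centralizer_iff k |>.mp hz
  let L' := Algebra.adjoin k ((L : Set A) ∪ {z})
  have hc : ∀ x ∈ (L : Set A) ∪ {z}, ∀ y ∈ (L : Set A) ∪ {z}, x * y = y * x := by
    rintro x (hx | rfl) y (hy | rfl)
    · exact hcomm x hx y hy
    · exact hz' x hx
    · exact (hz' y hy).symm
    · rfl
  letI := Algebra.isMulCommutative_adjoin k hc
  have h' : L' = L := hmax L' (fun x hx y hy => Subtype.ext_iff.mp
    (mul_comm' (⟨x, hx⟩ : Algebra.adjoin k _) ⟨y, hy⟩)) fun x hx => Algebra.subset_adjoin (Or.inl hx)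
  exact h' ▸ Algebra.subset_adjoin (Or.inr rfl)

omit [FiniteDimensional k D] in
theorem isSeparable_of_adjoin_eq_top {L : Type*} [Field L] [Algebra k L] [Algebra.IsSeparable k L]
    {E : Type*} [CommRing E] [IsDomain E] [Algebra k E] [Algebra L E] [IsScalarTower k L E]
    [FiniteDimensional L E] (x : E) (hx : IsSeparable L x)
    (htop : Algebra.adjoin L ({x} : Set E) = ⊤) : Algebra.IsSeparable k E := by
  letI : Field E := fieldOfFiniteDimensional L E
  have hi : IntermediateField.adjoin L ({x} : Set E) = ⊤ := by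
    rw [eq_top_iff]
    intro y _
    exact IntermediateField.algebra_adjoin_le_adjoin L _ (htop ▸ Algebra.mem_top)
  have : Algebra.IsSeparable L E := by
    have := (IntermediateField.isSeparable_adjoin_simple_iff_isSeparable L E).mpr hx
    rw [hi] at this
    exact Algebra.IsSeparable.of_algHom L _ (IntermediateField.topEquiv (F := L) (E := E)).symm.toAlgHom
  exact Algebra.IsSeparable.trans k L E

omit [FiniteDimensional k D] in
theorem isSeparable_iff_of_injective {L : Type*} [Field L] {E C : Type*} [Ring E] [Algebra L E]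
    [Ring C] [Algebra L C] (f : E →ₐ[L] C) (hf : Function.Injective f) (x : E) :
    IsSeparable L (f x) ↔ IsSeparable L x := by
  unfold IsSeparable
  rw [minpoly.algHom_eq f hf]

omit [FiniteDimensional k D] in
/-- Adjoining a separable element to a separable subfield. -/
theorem separable_extend {L : Type*} [Field L] [Algebra k L] [Algebra.IsSeparable k L]
    {C : Type*} [Ring C] [IsDomain C] [Algebra k C] [Algebra L C] [IsScalarTower k L C]
    [FiniteDimensional L C] (x : C) (hx : IsSeparable L x) :
    ∃ P : Subalgebra k C, (∀ a ∈ P, ∀ b ∈ P, a * b = b * a) ∧ Algebra.IsSeparable k P ∧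
      x ∈ P ∧ ∀ l : L, algebraMap L C l ∈ P := by
  let E := Algebra.adjoin L ({x} : Set C)
  have hEcomm : ∀ a b : E, a * b = b * a := fun a b =>
    letI := Algebra.isMulCommutative_adjoin L (s := ({x} : Set C)) (by simp)
    mul_comm' a b
  let x' : E := ⟨x, Algebra.subset_adjoin rfl⟩
  have hx' : IsSeparable L x' := (isSeparable_iff_of_injective E.val Subtype.val_injective x').mp hx
  have htop : Algebra.adjoin L ({x'} : Set E) = ⊤ := by
    rw [eq_top_iff]
    rintro ⟨y, hy⟩ -
    induction hy using Algebra.adjoin_induction with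
    | mem z hz => obtain rfl := hz; exact Algebra.subset_adjoin rfl
    | algebraMap r => exact (Algebra.adjoin L ({x'} : Set E)).algebraMap_mem r
    | add a b _ _ ha hb => exact (Algebra.adjoin L ({x'} : Set E)).add_mem ha hb
    | mul a b _ _ ha hb => exact (Algebra.adjoin L ({x'} : Set E)).mul_mem ha hb
  haveI hdom : IsDomain E := Function.Injective.isDomain E.toSubring.subtype Subtype.val_injective
  have : IsScalarTower k L E := IsScalarTower.of_algebraMap_eq fun r =>
    Subtype.ext (IsScalarTower.algebraMap_apply k L C r)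
  have hsep : Algebra.IsSeparable k E := by
    letI : CommRing E := { E.toRing with mul_comm := hEcomm }
    exact isSeparable_of_adjoin_eq_top (k := k) (L := L) x' hx' htop
  let f : E →ₐ[k] C := E.val.restrictScalars k
  have hf : Function.Injective f := Subtype.val_injective
  refine ⟨f.range, ?_, ?_, ⟨x', rfl⟩, fun l => ⟨algebraMap L E l, rfl⟩⟩
  · rintro _ ⟨a, rfl⟩ _ ⟨b, rfl⟩
    exact (map_mul f a b).symm.trans ((congr_arg f (hEcomm a b)).trans (map_mul f b a))
  · refine ⟨fun y => ?_⟩
    obtain ⟨e, rfl⟩ := (AlgEquiv.ofInjective f hf).surjective y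
    exact (isSeparable_iff_of_injective (AlgEquiv.ofInjective f hf).toAlgHom
      (AlgEquiv.injective _) e).mpr (hsep.isSeparable' e)

variable [Algebra.IsCentral k D]

theorem finrank_eq_sq (L : Subalgebra k D) (hcomm : ∀ x ∈ L, ∀ y ∈ L, x * y = y * x)
    (hc : Subalgebra.centralizer k (L : Set D) = L) :
    Module.finrank k D = Module.finrank k L ^ 2 := by
  have := isSimpleRing_of_comm L hcomm
  have h := Centralizer.finrank_mul_centralizer L.val
  rw [Subalgebra.range_val, hc, ← pow_two] at h
  exact h.symm

theorem exists_separable_maximal :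
    ∃ L : Subalgebra k D, (∀ x ∈ L, ∀ y ∈ L, x * y = y * x) ∧ Algebra.IsSeparable k L ∧
      Subalgebra.centralizer k (L : Set D) = L := by
  classical
  let P : Subalgebra k D → Prop := fun L =>
    (∀ x ∈ L, ∀ y ∈ L, x * y = y * x) ∧ Algebra.IsSeparable k L
  let Q : ℕ → Prop := fun d => ∃ L, P L ∧ Module.finrank k L = d
  have hbot : P ⊥ := by
    constructor
    · intro x hx y hy
      obtain ⟨a, rfl⟩ := Algebra.mem_bot.mp hx
      exact Algebra.commutes a y
    · refine ⟨fun y => ?_⟩
      obtain ⟨a, ha⟩ := Algebra.mem_bot.mp y.2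
      obtain rfl : algebraMap k (⊥ : Subalgebra k D) a = y := Subtype.ext ha
      exact isSeparable_algebraMap a
  obtain ⟨L, ⟨hcomm, hsep⟩, hL⟩ := Nat.findGreatest_spec (P := Q) (n := Module.finrank k D)
    (m := Module.finrank k (⊥ : Subalgebra k D))
    (Submodule.finrank_le (Subalgebra.toSubmodule (⊥ : Subalgebra k D))) ⟨⊥, hbot, rfl⟩
  have hmax : ∀ L', P L' → Module.finrank k L' ≤ Module.finrank k L := fun L' h' =>
    hL ▸ Nat.le_findGreatest (Submodule.finrank_le (Subalgebra.toSubmodule L')) ⟨L', h', rfl⟩
  refine ⟨L, hcomm, hsep, ?_⟩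
  have hLC : L ≤ Subalgebra.centralizer k (L : Set D) := fun z hz =>
    Subalgebra.mem_centralizer_iff k |>.mpr fun g hg => hcomm g hg z hz
  letI := fieldOfComm L hcomm
  let C := Subalgebra.centralizer k (L : Set D)
  haveI : IsDomain C := Function.Injective.isDomain C.toSubring.subtype Subtype.val_injective
  letI : DivisionRing C := divisionRingOfFiniteDimensional k C
  letI : Algebra L C := (Subalgebra.inclusion hLC).toRingHom.toAlgebra' fun l c => Subtype.ext
    (Subalgebra.mem_centralizer_iff k |>.mp c.2 l l.2)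
  have : IsScalarTower k L C := IsScalarTower.of_algebraMap_eq fun _ => rfl
  have : Algebra.IsCentral L C := ⟨fun z hz => by
    refine ⟨⟨z.1, ?_⟩, rfl⟩
    rw [← Centralizer.double_centralizer L]
    exact Subalgebra.mem_centralizer_iff k |>.mpr fun c hc =>
      congr_arg Subtype.val (Subalgebra.mem_center_iff.mp hz ⟨c, hc⟩)⟩
  have : FiniteDimensional L C := Module.Finite.of_restrictScalars_finite k L C
  by_contra hne
  have hnb : (⊥ : Subalgebra L C) ≠ ⊤ := fun h => hne <| le_antisymm (fun z hz => by
    have hmem : (⟨z, hz⟩ : C) ∈ (⊥ : Subalgebra L C) := h ▸ Algebra.mem_top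
    obtain ⟨l, hl⟩ := Algebra.mem_bot.mp hmem
    have : (l : D) = z := congr_arg Subtype.val hl
    exact this ▸ l.2) hLC
  obtain ⟨x, hxL, hxsep⟩ := JacobsonNoether.exists_separable_and_not_isCentral' hnb
  obtain ⟨P', hPc, hPs, hxP, hLP⟩ := separable_extend (k := k) (L := L) (C := C) x hxsep
  have hP : P (P'.map C.val) := by
    constructor
    · rintro _ ⟨a, ha, rfl⟩ _ ⟨b, hb, rfl⟩
      exact congr_arg Subtype.val (hPc a ha b hb)
    · refine ⟨fun y => ?_⟩
      have h' := Algebra.IsSeparable.isSeparable k
        ((P'.equivMapOfInjective C.val Subtype.val_injective).symm y)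
      simpa using h'.map (P'.equivMapOfInjective C.val Subtype.val_injective).toAlgHom
        (AlgEquiv.injective _)
  have hle : L ≤ P'.map C.val := fun l hl => ⟨algebraMap L C ⟨l, hl⟩, hLP _, rfl⟩
  have heq := Subalgebra.eq_of_le_of_finrank_le hle (hmax _ hP)
  apply hxL
  have hmem : (x : D) ∈ L := heq ▸ ⟨x, hxP, rfl⟩
  exact Algebra.mem_bot.mpr ⟨⟨x, hmem⟩, rfl⟩

end MaxSubfield

end Groth.Agent.Lib.CSA.Division
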