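import Groth.Prelude.Def_Curves
import Groth.Agent.Lib.CSA.Division
import Mathlib.Algebra.BrauerGroup.Defs
import Mathlib.LinearAlgebra.Matrix.ToLin
import Mathlib.FieldTheory.IsSepClosed
import Mathlib.FieldTheory.Galois.Basic
import Mathlib.FieldTheory.Normal.Closure
import Mathlib.LinearAlgebra.FreeModule.Finite.Matrix

/-!
# Splitting fields of central simple algebras
-/

open scoped TensorProduct

namespace Groth.Agent.Lib.CSA.Splitting

universe u v w

variable {k : Type u} [Field k]

theorem bijective_of_simple {K : Type*} [Field K] {R S : Type*} [Ring R] [Algebra K R] [IsSimpleRing R]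
    [Ring S] [Algebra K S] [Nontrivial S] [FiniteDimensional K R] [FiniteDimensional K S]
    (f : R →ₐ[K] S) (h : Module.finrank K R = Module.finrank K S) : Function.Bijective f :=
  ⟨RingHom.injective f.toRingHom,
    (LinearMap.injective_iff_surjective_of_finrank_eq_finrank h (f := f.toLinearMap)).mp
      (RingHom.injective f.toRingHom)⟩

theorem isCentral_baseChange (L : Type w) [Field L] [Algebra k L] (A : Type v) [Ring A] [Algebra k A]
    [Algebra.IsCentral k A] [IsSimpleRing A] : Algebra.IsCentral L (L ⊗[k] A) where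
  out x hx := by
    obtain ⟨l, -, rfl⟩ := Tensor.mem_center_tensor x
      (Subalgebra.mem_center_iff.mpr (Subalgebra.mem_center_iff.mp hx))
    exact ⟨l, rfl⟩

section Regular

variable {A : Type v} [Ring A] [Algebra k A] {L : Type w} [CommRing L] [Algebra k L]
  (ι : L →ₐ[k] A) [Module L A]

theorem smulComm_of_mod (hmod : ∀ (l : L) (a : A), l • a = a * ι l) : SMulCommClass A L A where
  smul_comm a l b := by simp only [hmod, smul_eq_mul, mul_assoc]

theorem tower_of_mod (hmod : ∀ (l : L) (a : A), l • a = a * ι l) : IsScalarTower k L A where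
  smul_assoc c l a := by rw [hmod, hmod, map_smul, mul_smul_comm]

variable [Algebra.IsCentral k A] [IsSimpleRing A] [FiniteDimensional k A]

/-- Splitting by a commutative subalgebra over which the algebra is free. -/
theorem exists_regular_equiv (hmod : ∀ (l : L) (a : A), l • a = a * ι l) (hι : Function.Injective ι)
    [Module.Free L A] (hdim : Module.finrank L A = Module.finrank k L) :
    Nonempty ((L ⊗[k] A) ≃ₐ[L] Matrix (Fin (Module.finrank k L)) (Fin (Module.finrank k L)) L) := by
  have := smulComm_of_mod ι hmod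
  have := SMulCommClass.symm A L A
  have := tower_of_mod ι hmod
  have : Nontrivial L := RingHom.domain_nontrivial ι.toRingHom
  have : FiniteDimensional k L := FiniteDimensional.of_injective ι.toLinearMap hι
  have : Module.Finite L A := Module.Finite.of_restrictScalars_finite k L A
  let F : L ⊗[k] A →ₐ[L] Module.End L A := Algebra.TensorProduct.lift (Algebra.ofId L _)
    (Algebra.lsmul k L A) fun l a => Algebra.commutes l _
  have hF : Function.Injective F.toLinearMap := by
    rw [← LinearMap.ker_eq_bot, LinearMap.ker_eq_bot']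
    intro x hx
    have hmem : x ∈ TwoSidedIdeal.ker F := (TwoSidedIdeal.mem_ker F).mpr hx
    rw [Tensor.eq_span_tmul_one (TwoSidedIdeal.ker F)] at hmem
    have hle : TwoSidedIdeal.span ((fun a : L => a ⊗ₜ[k] (1 : A)) ''
        {a : L | a ⊗ₜ[k] (1 : A) ∈ TwoSidedIdeal.ker F}) ≤ ⊥ := by
      rw [TwoSidedIdeal.span_le]
      rintro _ ⟨l, hl, rfl⟩
      have h := congr($((TwoSidedIdeal.mem_ker F).mp hl) (1 : A))
      have hl : F (l ⊗ₜ[k] (1 : A)) = algebraMap L (Module.End L A) l := by
        show Algebra.TensorProduct.lift (Algebra.ofId L _) (Algebra.lsmul k L A) _ (l ⊗ₜ[k] (1 : A)) = _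
        erw [Algebra.TensorProduct.lift_tmul]
        rw [map_one, mul_one, Algebra.ofId_apply]
      rw [hl, Module.algebraMap_end_apply] at h
      have : l = 0 := hι (by simpa [hmod] using h)
      simp [this]
    exact (TwoSidedIdeal.mem_bot _).mp (hle hmem)
  let b := Module.finBasisOfFinrankEq L A hdim
  let Φ := (algEquivMatrix b).toAlgHom.comp F
  have hΦ : Function.Injective (Φ.restrictScalars k).toLinearMap := (algEquivMatrix b).injective.comp hF
  have hd : Module.finrank k (L ⊗[k] A) =
      Module.finrank k (Matrix (Fin (Module.finrank k L)) (Fin (Module.finrank k L)) L) := by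
    rw [Module.finrank_tensorProduct, Module.finrank_matrix, ← Module.finrank_mul_finrank k L A, hdim]
    simp only [Fintype.card_fin]
    ring
  exact ⟨AlgEquiv.ofBijective Φ ⟨hΦ,
    (LinearMap.injective_iff_surjective_of_finrank_eq_finrank hd (f := (Φ.restrictScalars k).toLinearMap)).mp hΦ⟩⟩

end Regular

section MatrixTensor

variable (L : Type w) [Field L] [Algebra k L] (A : Type v) [Ring A] [Algebra k A]
  [Algebra.IsCentral k A] [IsSimpleRing A] [FiniteDimensional k A]

theorem exists_matrix_tensor (n : ℕ) [NeZero n] :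
    Nonempty (L ⊗[k] Matrix (Fin n) (Fin n) A ≃ₐ[L] Matrix (Fin n) (Fin n) (L ⊗[k] A)) := by
  have : IsSimpleRing (L ⊗[k] Matrix (Fin n) (Fin n) A) := Tensor.isSimpleRing_tensor
  have : Nontrivial (L ⊗[k] A) := (Tensor.isSimpleRing_tensor (k := k) (A := L) (B := A)).instNontrivial
  let F : L ⊗[k] Matrix (Fin n) (Fin n) A →ₐ[L] Matrix (Fin n) (Fin n) (L ⊗[k] A) :=
    Algebra.TensorProduct.lift (Algebra.ofId L _)
      (Algebra.TensorProduct.includeRight : A →ₐ[k] L ⊗[k] A).mapMatrix fun l M => Algebra.commutes l _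
  refine ⟨AlgEquiv.ofBijective F (bijective_of_simple F ?_)⟩
  rw [Module.finrank_baseChange, Module.finrank_matrix, Module.finrank_matrix, Module.finrank_baseChange]

variable {A}

theorem splits_congr {B : Type*} [Ring B] [Algebra k B] (e : A ≃ₐ[k] B) (h : Curves.Splits k B L) :
    Curves.Splits k A L := by
  obtain ⟨n, hn, ⟨f⟩⟩ := h
  exact ⟨n, hn, ⟨(Algebra.TensorProduct.congr (AlgEquiv.refl : L ≃ₐ[L] L) e).trans f⟩⟩

theorem splits_matrix (n : ℕ) [NeZero n] (h : Curves.Splits k A L) :
    Curves.Splits k (Matrix (Fin n) (Fin n) A) L := by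
  obtain ⟨r, hr, ⟨f⟩⟩ := h
  obtain ⟨g⟩ := exists_matrix_tensor L A n (k := k)
  exact ⟨n * r, mul_ne_zero (NeZero.ne n) hr, ⟨g.trans (f.mapMatrix.trans
    ((Matrix.compAlgEquiv _ _ _ _).trans (Matrix.reindexAlgEquiv _ _ finProdFinEquiv)))⟩⟩

theorem splits_of_matrix (n : ℕ) [NeZero n] (h : Curves.Splits k (Matrix (Fin n) (Fin n) A) L) :
    Curves.Splits k A L := by
  obtain ⟨N, hN, ⟨f⟩⟩ := h
  obtain ⟨g⟩ := exists_matrix_tensor L A n (k := k)
  have : IsSimpleRing (L ⊗[k] A) := Tensor.isSimpleRing_tensor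
  have := isCentral_baseChange (k := k) L A
  obtain ⟨s, hs, E, i1, i2, i3, i4, ⟨c⟩⟩ := Division.exists_matrix (k := L) (L ⊗[k] A)
  let g' : Matrix (Fin (n * s)) (Fin (n * s)) E ≃ₐ[L] Matrix (Fin N) (Fin N) L :=
    (((c.mapMatrix (m := Fin n)).trans ((Matrix.compAlgEquiv _ _ _ _).trans
      (Matrix.reindexAlgEquiv _ _ finProdFinEquiv))).symm.trans g.symm).trans f
  obtain ⟨η⟩ := Division.divisionRing_unique (mul_ne_zero (NeZero.ne n) (NeZero.ne s)) g'
  exact ⟨s, NeZero.ne s, ⟨c.trans η.mapMatrix⟩⟩

theorem splits_mono {K : Type*} [Field K] [Algebra k K] (f : L →ₐ[k] K) (h : Curves.Splits k A L) :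
    Curves.Splits k A K := by
  obtain ⟨n, hn, ⟨e⟩⟩ := h
  have : NeZero n := ⟨hn⟩
  have : IsSimpleRing (K ⊗[k] A) := Tensor.isSimpleRing_tensor
  let F : K ⊗[k] A →ₐ[K] Matrix (Fin n) (Fin n) K := Algebra.TensorProduct.lift (Algebra.ofId K _)
    (f.mapMatrix.comp ((e.toAlgHom.restrictScalars k).comp Algebra.TensorProduct.includeRight))
    fun l M => Algebra.commutes l _
  refine ⟨n, hn, ⟨AlgEquiv.ofBijective F (bijective_of_simple F ?_)⟩⟩
  rw [Module.finrank_baseChange, Module.finrank_matrix, ← Module.finrank_baseChange (R := L) (S := k)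
    (M' := A), e.toLinearEquiv.finrank_eq, Module.finrank_matrix]
  simp

end MatrixTensor

section Descent

theorem isCentral_of_algEquiv {D : Type*} [Ring D] [Algebra k D] {D' : Type*} [Ring D'] [Algebra k D']
    [Algebra.IsCentral k D] (e : D ≃ₐ[k] D') : Algebra.IsCentral k D' where
  out x hx := by
    have hm : e.symm x ∈ Subalgebra.center k D := Subalgebra.mem_center_iff.mpr fun b =>
      e.injective (by simpa using Subalgebra.mem_center_iff.mp hx (e b))
    rw [Algebra.IsCentral.center_eq_bot, Algebra.mem_bot] at hm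
    obtain ⟨c, hc⟩ := hm
    exact ⟨c, by simpa [Algebra.ofId_apply] using congr(e $hc)⟩

theorem csa_of_splits {K : Type w} [Field K] [Algebra k K] {A : Type v} [Ring A] [Algebra k A]
    (h : Curves.Splits k A K) :
    Algebra.IsCentral k A ∧ IsSimpleRing A ∧ FiniteDimensional k A := by
  classical
  obtain ⟨n, hn, ⟨e⟩⟩ := h
  have : NeZero n := ⟨hn⟩
  have : IsSimpleRing (K ⊗[k] A) := IsSimpleRing.of_ringEquiv e.symm.toRingEquiv inferInstance
  have : FiniteDimensional K (K ⊗[k] A) := Module.Finite.equiv e.symm.toLinearEquiv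
  have : Algebra.IsCentral K (K ⊗[k] A) := isCentral_of_algEquiv e.symm
  have hnt : Nontrivial A := by
    by_contra hA
    rw [not_nontrivial_iff_subsingleton] at hA
    have : Subsingleton (K ⊗[k] A) := inferInstance
    exact not_subsingleton _ this
  have hval : ∀ φ : A →ₗ[k] k, ∀ a : A,
      TensorProduct.rid k K (φ.lTensor K ((1 : K) ⊗ₜ[k] a)) = algebraMap k K (φ a) := fun φ a => by
    simp [Algebra.algebraMap_eq_smul_one]
  refine ⟨⟨fun z hz => ?_⟩, IsSimpleRing.of_eq_bot_or_eq_top fun I => ?_, ?_⟩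
  · have hz' : (1 : K) ⊗ₜ[k] z ∈ Subalgebra.center K (K ⊗[k] A) := Subalgebra.mem_center_iff.mpr fun x => by
      induction x with
      | zero => simp
      | tmul a b => simp [Subalgebra.mem_center_iff.mp hz b]
      | add x y hx hy => simp [add_mul, mul_add, hx, hy]
    rw [Algebra.IsCentral.center_eq_bot, Algebra.mem_bot] at hz'
    obtain ⟨c, hc⟩ := hz'
    rw [Algebra.mem_bot]
    by_contra hzc
    obtain ⟨φ, hφz, hφ⟩ := Submodule.exists_dual_map_eq_bot_of_notMem (p := k ∙ (1 : A)) (x := z)
      (fun h => hzc (by obtain ⟨r, rfl⟩ := Submodule.mem_span_singleton.mp h; exact ⟨r, by simp [Algebra.algebraMap_eq_smul_one]⟩)) inferInstance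
    have hφ1 : φ 1 = 0 := by
      have : φ 1 ∈ (k ∙ (1 : A)).map φ := ⟨1, Submodule.mem_span_singleton_self 1, rfl⟩
      rwa [hφ] at this
    have h := hval φ z
    rw [← hc, Algebra.TensorProduct.algebraMap_apply] at h
    simp [hφ1] at h
    exact hφz ((algebraMap k K).injective (by rw [map_zero]; exact h.symm))
  · rw [or_iff_not_imp_left, ← TwoSidedIdeal.one_mem_iff]
    intro hne
    obtain ⟨a, haI, ha⟩ : ∃ a ∈ I, a ≠ 0 := by
      by_contra! h
      exact hne (eq_bot_iff.mpr fun x hx => (TwoSidedIdeal.mem_bot _).mpr (h x hx))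
    have hKne : (1 : K) ⊗ₜ[k] a ≠ 0 := fun h0 => ha (Algebra.TensorProduct.includeRight_injective
      (R := k) (A := K) (B := A) (FaithfulSMul.algebraMap_injective k K) (by simpa using h0))
    have htop := IsSimpleRing.one_mem_of_ne_zero_mem
      (TwoSidedIdeal.span ((fun a : A => (1 : K) ⊗ₜ[k] a) '' I)) hKne
      (TwoSidedIdeal.subset_span ⟨a, haI, rfl⟩)
    by_contra h1
    let J : Submodule k A :=
      { carrier := I
        add_mem' := I.add_mem
        zero_mem' := I.zero_mem
        smul_mem' := fun c x hx => by rw [Algebra.smul_def]; exact I.mul_mem_left _ _ hx }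
    obtain ⟨φ, hφ1, hφ⟩ := Submodule.exists_dual_map_eq_bot_of_notMem (p := J) (x := 1) h1 inferInstance
    have hφI : ∀ x ∈ I, φ x = 0 := fun x hx => by
      have : φ x ∈ J.map φ := ⟨x, hx, rfl⟩
      rwa [hφ] at this
    let N : TwoSidedIdeal (K ⊗[k] A) := TwoSidedIdeal.mk' (LinearMap.range (J.subtype.lTensor K) : Set _)
      (zero_mem _) (fun hx hy => add_mem hx hy) (fun hx => neg_mem hx)
      (by
        rintro x _ ⟨y, rfl⟩
        induction y with
        | zero => simp
        | tmul c b =>
          induction x with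
          | zero => simp
          | tmul c' b' =>
            exact ⟨(c' * c) ⊗ₜ ⟨b' * b.1, I.mul_mem_left _ _ b.2⟩, by simp⟩
          | add x x' hx hx' =>
            rw [add_mul]
            exact add_mem hx hx'
        | add y y' hy hy' => rw [map_add, mul_add]; exact add_mem hy hy')
      (by
        rintro _ x ⟨y, rfl⟩
        induction y with
        | zero => simp
        | tmul c b =>
          induction x with
          | zero => simp
          | tmul c' b' =>
            exact ⟨(c * c') ⊗ₜ ⟨b.1 * b', I.mul_mem_right _ _ b.2⟩, by simp⟩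
          | add x x' hx hx' =>
            rw [mul_add]
            exact add_mem hx hx'
        | add y y' hy hy' => rw [map_add, add_mul]; exact add_mem hy hy')
    have hle : TwoSidedIdeal.span ((fun a : A => (1 : K) ⊗ₜ[k] a) '' I) ≤ N := by
      rw [TwoSidedIdeal.span_le]
      rintro _ ⟨x, hx, rfl⟩
      rw [SetLike.mem_coe, TwoSidedIdeal.mem_mk']
      exact ⟨(1 : K) ⊗ₜ ⟨x, hx⟩, by simp⟩
    have h1N := hle htop
    rw [TwoSidedIdeal.mem_mk'] at h1N
    obtain ⟨y, hy⟩ := h1N
    have h := hval φ 1
    rw [← Algebra.TensorProduct.one_def, ← hy] at h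
    have hz : φ.lTensor K (J.subtype.lTensor K y) = 0 := by
      rw [← LinearMap.comp_apply, ← LinearMap.lTensor_comp]
      have : φ.comp J.subtype = 0 := LinearMap.ext fun x => hφI x.1 x.2
      simp [this]
    rw [hz, map_zero] at h
    exact hφ1 ((algebraMap k K).injective (by rw [← h, map_zero]))
  · rw [FiniteDimensional, ← Module.rank_lt_aleph0_iff]
    have h := Module.rank_lt_aleph0 K (K ⊗[k] A)
    rw [Module.rank_baseChange] at h
    simpa using h

end Descent

section Existence

variable (k)

theorem exists_separable_splitting (A : Type v) [Ring A] [Algebra k A]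
    [Algebra.IsCentral k A] [IsSimpleRing A] [FiniteDimensional k A] :
    ∃ k' : IntermediateField k (SeparableClosure k), FiniteDimensional k k' ∧ Curves.Splits k A k' := by
  obtain ⟨n, hn, D, i1, i2, i3, i4, ⟨e⟩⟩ := Division.exists_matrix (k := k) A
  obtain ⟨L, hcomm, hsep, hC⟩ := Division.exists_separable_maximal (k := k) (D := D)
  letI := Division.fieldOfComm L hcomm
  letI : Module L D := Module.compHom D ((AlgHom.op L.val).toRingHom.comp (RingEquiv.toOpposite L).toRingHom)
  have hdim : Module.finrank L D = Module.finrank k L := by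
    have := tower_of_mod (k := k) L.val (fun _ _ => rfl)
    have h := Division.finrank_eq_sq L hcomm hC
    rw [← Module.finrank_mul_finrank k L D, pow_two] at h
    exact Nat.eq_of_mul_eq_mul_left Module.finrank_pos h
  obtain ⟨f⟩ := exists_regular_equiv L.val (fun _ _ => rfl) Subtype.val_injective hdim
  have hD : Curves.Splits k D L := ⟨_, Module.finrank_pos.ne', ⟨f⟩⟩
  let f : L →ₐ[k] SeparableClosure k := IsSepClosed.lift
  let g : L ≃ₐ[k] f.fieldRange := AlgEquiv.ofInjectiveField f
  exact ⟨f.fieldRange, LinearEquiv.finiteDimensional g.toLinearEquiv,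
    splits_congr _ e (splits_matrix _ n (splits_mono _ g.toAlgHom hD))⟩

end Existence

end Groth.Agent.Lib.CSA.Splitting
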