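import Groth.Agent.Lib.CSA.SimpleModule
import Mathlib.RingTheory.SimpleModule.IsAlgClosed
import Mathlib.FieldTheory.JacobsonNoether
import Mathlib.FieldTheory.IsSepClosed
import Mathlib.FieldTheory.IsAlgClosed.AlgebraicClosure
import Mathlib.Algebra.Central.Matrix
import Mathlib.RingTheory.TensorProduct.Maps

/-!
# Basic theorems on central simple algebras over fields
-/

namespace Groth.Agent.Lib.CSA.Basic

set_option linter.style.haveILetI false

open scoped TensorProduct
open TensorProduct Groth.Agent.Lib.CSA.Simple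

universe u v w

variable (k : Type u) [Field k] (A : Type v) [Ring A] [Algebra k A]

theorem finrank_op : Module.finrank k Aᵐᵒᵖ = Module.finrank k A :=
  (MulOpposite.opLinearEquiv k : A ≃ₗ[k] Aᵐᵒᵖ).finrank_eq.symm

theorem mulLeftRight_bijective [Algebra.IsCentral k A] [IsSimpleRing A] [FiniteDimensional k A] :
    Function.Bijective (AlgHom.mulLeftRight k A) := by
  haveI := isSimpleRing_tensor k A Aᵐᵒᵖ
  have hinj : Function.Injective (AlgHom.mulLeftRight k A).toLinearMap :=
    RingHom.injective (AlgHom.mulLeftRight k A).toRingHom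
  refine ⟨hinj, (LinearMap.injective_iff_surjective_of_finrank_eq_finrank ?_).mp hinj⟩
  rw [Module.finrank_tensorProduct, finrank_op, Module.finrank_linearMap]

theorem isAzumaya [Algebra.IsCentral k A] [IsSimpleRing A] [FiniteDimensional k A] :
    IsAzumaya k A :=
  { bij := mulLeftRight_bijective k A }

/-- Simplicity descends along a field extension. -/
theorem isSimpleRing_of_baseChange (K : Type w) [Field K] [Algebra k K]
    [IsSimpleRing (K ⊗[k] A)] : IsSimpleRing A := by
  haveI : Nontrivial A := by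
    rcases subsingleton_or_nontrivial A with h | h
    · exfalso
      have h1 : (1 : K ⊗[k] A) = 0 := by
        rw [Algebra.TensorProduct.one_def, Subsingleton.elim (1 : A) 0, TensorProduct.tmul_zero]
      exact one_ne_zero h1
    · exact h
  refine IsSimpleRing.of_eq_bot_or_eq_top fun I => ?_
  by_cases hI : (1 : A) ∈ I
  · exact Or.inr ((TwoSidedIdeal.one_mem_iff I).mp hI)
  refine Or.inl (le_antisymm (fun x hx => ?_) bot_le)
  let f : A →ₐ[k] I.ringCon.Quotient :=
    { I.ringCon.mk' with commutes' := fun c => rfl }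
  haveI : Nontrivial I.ringCon.Quotient := nontrivial_of_ne (f 1) (f 0) fun h => by
    apply hI
    rw [TwoSidedIdeal.mem_iff]
    exact (RingCon.eq I.ringCon).mp h
  haveI : Nontrivial (K ⊗[k] I.ringCon.Quotient) := Simple.nontrivial_tensor
  have hG := RingHom.injective (Algebra.TensorProduct.map (AlgHom.id K K) f).toRingHom
  have hx0 : f x = 0 := by
    rw [← map_zero f]
    exact (RingCon.eq I.ringCon).mpr (I.mem_iff _ |>.mp hx)
  have : (1 : K) ⊗ₜ[k] x = 0 := hG (by simp [hx0])
  rw [TwoSidedIdeal.mem_bot]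
  exact Algebra.TensorProduct.includeRight_injective (A := K) (algebraMap k K).injective
    (by simpa using this)

theorem isCentral_of_baseChange (K : Type w) [Field K] [Algebra k K]
    [Algebra.IsCentral K (K ⊗[k] A)] : Algebra.IsCentral k A := by
  refine ⟨fun x hx => ?_⟩
  rw [Algebra.mem_bot]
  by_contra hxr
  have hx' : (1 : K) ⊗ₜ[k] x ∈ Subalgebra.center K (K ⊗[k] A) := by
    rw [Subalgebra.mem_center_iff] at hx ⊢
    intro z
    induction z using TensorProduct.induction_on with
    | zero => simp
    | tmul c a => simp [hx a]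
    | add a b ha hb => simp [add_mul, mul_add, ha, hb]
  rw [Algebra.IsCentral.center_eq_bot, Algebra.mem_bot] at hx'
  obtain ⟨c, hc⟩ := hx'
  have hspan : x ∉ Submodule.span k ({(1 : A)} : Set A) := by
    rintro h
    obtain ⟨t, ht⟩ := Submodule.mem_span_singleton.mp h
    exact hxr ⟨t, by rw [Algebra.algebraMap_eq_smul_one]; exact ht⟩
  obtain ⟨g, hg, hg'⟩ := Submodule.exists_dual_map_eq_bot_of_notMem hspan inferInstance
  have hg1 : g 1 = 0 := by
    have h := Submodule.mem_map_of_mem (f := g) (Submodule.mem_span_singleton_self (1 : A))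
    rw [hg', Submodule.mem_bot] at h
    exact h
  have := congrArg (fun z => (TensorProduct.rid k K).toLinearMap (LinearMap.lTensor K g z)) hc
  simp [hg1, Algebra.TensorProduct.algebraMap_apply] at this
  rcases smul_eq_zero.mp this.symm with h | h
  · exact hg h
  · exact one_ne_zero h

theorem finiteDimensional_of_baseChange (K : Type w) [Field K] [Algebra k K]
    [FiniteDimensional K (K ⊗[k] A)] : FiniteDimensional k A := by
  rw [FiniteDimensional, ← Module.rank_lt_aleph0_iff]
  have h := Module.rank_lt_aleph0_iff.mpr (inferInstance : Module.Finite K (K ⊗[k] A))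
  rw [Module.rank_baseChange, Cardinal.lift_lt_aleph0] at h
  exact h

theorem exists_finrank_eq_sq [Algebra.IsCentral k A] [IsSimpleRing A] [FiniteDimensional k A] :
    ∃ n : ℕ, 0 < n ∧ Module.finrank k A = n ^ 2 := by
  haveI := isSimpleRing_baseChange k (AlgebraicClosure k) A
  obtain ⟨n, hn, ⟨e⟩⟩ :=
    IsSimpleRing.exists_algEquiv_matrix_of_isAlgClosed (AlgebraicClosure k) (AlgebraicClosure k ⊗[k] A)
  refine ⟨n, Nat.pos_of_ne_zero hn.out, ?_⟩
  have h := e.toLinearEquiv.finrank_eq
  rw [Module.finrank_baseChange, Module.finrank_matrix] at h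
  simpa [sq] using h

/-- The division algebra part of a central simple algebra is central. -/
theorem exists_algEquiv_matrix_central_divisionRing [Algebra.IsCentral k A] [IsSimpleRing A]
    [FiniteDimensional k A] :
    ∃ (n : ℕ) (_ : NeZero n) (D : Type v) (_ : DivisionRing D) (_ : Algebra k D)
      (_ : Algebra.IsCentral k D) (_ : FiniteDimensional k D),
      Nonempty (A ≃ₐ[k] Matrix (Fin n) (Fin n) D) := by
  haveI := IsArtinianRing.of_finite k A
  obtain ⟨n, hn, D, iD, iA, iF, ⟨e⟩⟩ := IsSimpleRing.exists_algEquiv_matrix_divisionRing_finite k A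
  refine ⟨n, hn, D, iD, iA, ⟨fun x hx => ?_⟩, iF, ⟨e⟩⟩
  haveI : Algebra.IsCentral k (Matrix (Fin n) (Fin n) D) := Algebra.IsCentral.of_algEquiv k _ _ e
  have hsx : Matrix.scalar (Fin n) x ∈ Subalgebra.center k (Matrix (Fin n) (Fin n) D) := by
    rw [Subalgebra.mem_center_iff] at hx ⊢
    intro M
    ext i j
    simp [hx (M i j)]
  rw [Algebra.IsCentral.center_eq_bot, Algebra.mem_bot] at hsx
  obtain ⟨c, hc⟩ := hsx
  rw [Algebra.mem_bot]
  refine ⟨c, ?_⟩
  have := congrFun (congrFun hc 0) 0
  simpa [Matrix.algebraMap_matrix_apply] using this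

theorem divisionRing_eq_bot_of_isSepClosed [IsSepClosed k] (D : Type v) [DivisionRing D]
    [Algebra k D] [Algebra.IsCentral k D] [FiniteDimensional k D] : (⊥ : Subalgebra k D) = ⊤ := by
  by_contra h
  obtain ⟨x, hx, hsep⟩ := JacobsonNoether.exists_separable_and_not_isCentral' h
  apply hx
  rw [Algebra.mem_bot]
  have hint := hsep.isIntegral
  have hirr := minpoly.irreducible hint
  have hdeg := IsSepClosed.degree_eq_one_of_irreducible k hirr hsep
  exact minpoly.degree_eq_one_iff.mp hdeg

theorem exists_algEquiv_matrix_of_isSepClosed [IsSepClosed k] [Algebra.IsCentral k A]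
    [IsSimpleRing A] [FiniteDimensional k A] :
    ∃ n : ℕ, n ≠ 0 ∧ Nonempty (A ≃ₐ[k] Matrix (Fin n) (Fin n) k) := by
  obtain ⟨n, hn, D, _, _, _, _, ⟨e⟩⟩ := exists_algEquiv_matrix_central_divisionRing k A
  have hb : Function.Bijective (Algebra.ofId k D) := ⟨(algebraMap k D).injective, fun x => by
    have hx : x ∈ (⊥ : Subalgebra k D) := by
      rw [divisionRing_eq_bot_of_isSepClosed k D]; exact Algebra.mem_top
    exact Algebra.mem_bot.mp hx⟩
  exact ⟨n, hn.out, ⟨e.trans (AlgEquiv.mapMatrix (AlgEquiv.ofBijective _ hb).symm)⟩⟩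

end Groth.Agent.Lib.CSA.Basic
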