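import Groth.Agent.Lib.CSA.Simple
import Mathlib.RingTheory.SimpleModule.Isotypic
import Mathlib.LinearAlgebra.Matrix.ToLin

/-!
# Modules over simple finite-dimensional algebras, double centralizer count
-/

namespace Groth.Agent.Lib.CSA.SimpleModule

set_option linter.style.haveILetI false

universe u v w w'

variable {k : Type u} [Field k] {R : Type v} [Ring R] [Algebra k R] [IsSimpleRing R]
  [FiniteDimensional k R]

variable (k) in
include k in
theorem exists_pow_equiv (I : Submodule R R) [IsSimpleModule R I]
    (M : Type w) [AddCommGroup M] [Module R M] [Module.Finite R M] :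
    ∃ n : ℕ, Nonempty (M ≃ₗ[R] (Fin n → I)) := by
  haveI := IsArtinianRing.of_finite k R
  have hiso : IsIsotypicOfType R M I := by
    intro m hm
    have hMI : IsIsotypic R (M × I) := IsSimpleRing.isIsotypic R _
    let e₁ : m ≃ₗ[R] (Submodule.map (LinearMap.inl R M I) m : Submodule R (M × I)) :=
      Submodule.equivMapOfInjective _ LinearMap.inl_injective m
    let e₂ : I ≃ₗ[R] (LinearMap.range (LinearMap.inr R M I)) :=
      LinearEquiv.ofInjective _ LinearMap.inr_injective
    haveI : IsSimpleModule R (Submodule.map (LinearMap.inl R M I) m : Submodule R (M × I)) :=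
      IsSimpleModule.congr e₁.symm
    haveI : IsSimpleModule R (LinearMap.range (LinearMap.inr R M I)) :=
      IsSimpleModule.congr e₂.symm
    obtain ⟨e⟩ := hMI (LinearMap.range (LinearMap.inr R M I))
      (Submodule.map (LinearMap.inl R M I) m)
    exact ⟨e₁.trans (e.trans e₂.symm)⟩
  exact hiso.linearEquiv_fun

/-- Finite modules of the same dimension over a simple algebra are isomorphic. -/
theorem nonempty_linearEquiv_of_finrank_eq
    {M : Type w} [AddCommGroup M] [Module R M] [Module k M] [IsScalarTower k R M]
    [FiniteDimensional k M]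
    {N : Type w'} [AddCommGroup N] [Module R N] [Module k N] [IsScalarTower k R N]
    [FiniteDimensional k N]
    (h : Module.finrank k M = Module.finrank k N) : Nonempty (M ≃ₗ[R] N) := by
  haveI := IsArtinianRing.of_finite k R
  obtain ⟨I, hI⟩ := IsAtomic.exists_atom (Submodule R R)
  haveI : IsSimpleModule R I := isSimpleModule_iff_isAtom.mpr hI
  haveI : Module.Finite R M := Module.Finite.of_restrictScalars_finite k R M
  haveI : Module.Finite R N := Module.Finite.of_restrictScalars_finite k R N
  obtain ⟨a, ⟨ea⟩⟩ := exists_pow_equiv k I M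
  obtain ⟨b, ⟨eb⟩⟩ := exists_pow_equiv k I N
  haveI : Module.Finite k I := Module.Finite.of_injective
    ((Submodule.subtype I).restrictScalars k) Subtype.val_injective
  haveI : Nontrivial I := IsSimpleModule.nontrivial R I
  have ha := (ea.restrictScalars k).finrank_eq
  have hb := (eb.restrictScalars k).finrank_eq
  rw [Module.finrank_pi_fintype] at ha hb
  simp only [Finset.sum_const, Finset.card_univ, Fintype.card_fin, smul_eq_mul] at ha hb
  have hpos : 0 < Module.finrank k I := Module.finrank_pos
  have hab : a = b := Nat.eq_of_mul_eq_mul_right hpos (by rw [← ha, ← hb, h])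
  subst hab
  exact ⟨ea.trans eb.symm⟩

/-- The double centralizer dimension count for a simple algebra. -/
theorem finrank_end_mul_finrank
    (M : Type w) [AddCommGroup M] [Module R M] [Module k M] [IsScalarTower k R M]
    [SMulCommClass R k M] [FiniteDimensional k M] :
    Module.finrank k (Module.End R M) * Module.finrank k R = Module.finrank k M ^ 2 := by
  haveI := IsArtinianRing.of_finite k R
  obtain ⟨I, hI⟩ := IsAtomic.exists_atom (Submodule R R)
  haveI : IsSimpleModule R I := isSimpleModule_iff_isAtom.mpr hI
  haveI : Module.Finite R M := Module.Finite.of_restrictScalars_finite k R M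
  obtain ⟨a, ⟨ea⟩⟩ := exists_pow_equiv k I M
  obtain ⟨r, ⟨er⟩⟩ := exists_pow_equiv k I R
  haveI : Module.Finite k I := Module.Finite.of_injective
    ((Submodule.subtype I).restrictScalars k) Subtype.val_injective
  have hEnd : Module.finrank k (Module.End R M) = a * a * Module.finrank k (Module.End R I) := by
    rw [((ea.conjAlgEquiv k).trans (endVecAlgEquivMatrixEnd (Fin a) k R I)).toLinearEquiv.finrank_eq,
      Module.finrank_matrix]
    simp
  have hR : Module.finrank k R = r * r * Module.finrank k (Module.End R I) := by
    have e₀ : Rᵐᵒᵖ ≃ₐ[k] Matrix (Fin r) (Fin r) (Module.End R I) :=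
      (AlgEquiv.moduleEndSelf k).trans
        ((er.conjAlgEquiv k).trans (endVecAlgEquivMatrixEnd (Fin r) k R I))
    rw [(MulOpposite.opLinearEquiv k : R ≃ₗ[k] Rᵐᵒᵖ).finrank_eq, e₀.toLinearEquiv.finrank_eq,
      Module.finrank_matrix]
    simp
  have hM : Module.finrank k M = a * Module.finrank k I := by
    rw [(ea.restrictScalars k).finrank_eq, Module.finrank_pi_fintype]; simp
  have hR' : Module.finrank k R = r * Module.finrank k I := by
    rw [(er.restrictScalars k).finrank_eq, Module.finrank_pi_fintype]; simp
  have hr : 0 < r := by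
    rcases Nat.eq_zero_or_pos r with h0 | h0
    · exfalso
      have : 0 < Module.finrank k R := Module.finrank_pos
      simp [hR', h0] at this
    · exact h0
  have hs : Module.finrank k I = r * Module.finrank k (Module.End R I) := by
    refine Nat.eq_of_mul_eq_mul_left hr ?_
    rw [← hR', hR, mul_assoc]
  rw [hEnd, hR, hM, hs]
  ring

end Groth.Agent.Lib.CSA.SimpleModule
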