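import Groth.Agent.Lib.CSA.Splitting

/-!
# The module of a splitting of a division algebra
-/

open scoped TensorProduct
open MulOpposite

namespace Groth.Agent.Lib.CSA.SplittingModule

universe u v w

variable {k : Type u} [Field k] {D : Type v} [DivisionRing D] [Algebra k D] [FiniteDimensional k D]
  {L : Type w} [Field L] [Algebra k L] [FiniteDimensional k L]

/-- Restriction of scalars as an algebra map. -/
noncomputable def restrictEnd (V : Type*) [AddCommGroup V] [Module k V] [Module L V]
    [IsScalarTower k L V] [SMulCommClass L k V] : Module.End L V →ₐ[k] Module.End k V where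
  toFun f := f.restrictScalars k
  map_one' := rfl
  map_mul' _ _ := rfl
  map_zero' := rfl
  map_add' _ _ := rfl
  commutes' c := LinearMap.ext fun x => by simp

/-- The representation of `Dᵐᵒᵖ` coming from a splitting. -/
noncomputable def rep {d : ℕ} (e : L ⊗[k] D ≃ₐ[L] Matrix (Fin d) (Fin d) L) :
    Dᵐᵒᵖ →ₐ[k] Module.End k (Fin d → L) :=
  (restrictEnd (L := L) (Fin d → L)).comp
    (((Matrix.toLinAlgEquiv' (R := L) (n := Fin d)).toAlgHom.restrictScalars k).comp
      (((Matrix.transposeAlgEquiv (Fin d) L L).symm.toAlgHom.restrictScalars k).comp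
        (AlgHom.op ((e.toAlgHom.restrictScalars k).comp Algebra.TensorProduct.includeRight))))

theorem rep_smul {d : ℕ} (e : L ⊗[k] D ≃ₐ[L] Matrix (Fin d) (Fin d) L) (r : Dᵐᵒᵖ) (l : L)
    (v : Fin d → L) : rep e r (l • v) = l • rep e r v := by
  show Matrix.toLinAlgEquiv' _ (l • v) = l • Matrix.toLinAlgEquiv' _ v
  exact map_smul _ _ _

theorem exists_degree (h : Curves.Splits k D L) :
    ∃ (d m : ℕ) (_ : L →ₐ[k] Matrix (Fin m) (Fin m) D), m ≠ 0 ∧ d ≠ 0 ∧
      Module.finrank k D = d * d ∧ Module.finrank k L = m * d := by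
  classical
  obtain ⟨d, hd, ⟨e⟩⟩ := h
  have hD : Module.finrank k D = d * d := by
    rw [← Module.finrank_baseChange (R := L) (S := k) (M' := D), e.toLinearEquiv.finrank_eq,
      Module.finrank_matrix]
    simp
  let ρ := rep e
  let V := Centralizer.ModOf ρ
  have : Module.Finite Dᵐᵒᵖ V := Module.Finite.of_restrictScalars_finite k Dᵐᵒᵖ V
  have hfin : Module.finrank k V = Module.finrank k Dᵐᵒᵖ * Module.finrank Dᵐᵒᵖ V :=
    (Module.finrank_mul_finrank k Dᵐᵒᵖ V).symm
  rw [← (Centralizer.toModOf ρ).finrank_eq, ← (MulOpposite.opLinearEquiv k : D ≃ₗ[k] Dᵐᵒᵖ).finrank_eq, hD,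
    Module.finrank_pi_fintype] at hfin
  simp only [Finset.sum_const, Finset.card_univ, Fintype.card_fin, smul_eq_mul] at hfin
  set m := Module.finrank Dᵐᵒᵖ V
  have hL : Module.finrank k L = m * d := by
    refine Nat.eq_of_mul_eq_mul_left (Nat.pos_of_ne_zero hd) ?_
    rw [hfin]; ring
  have hm : m ≠ 0 := by
    intro h0
    have : 0 < Module.finrank k L := Module.finrank_pos
    rw [hL, h0, Nat.zero_mul] at this
    exact lt_irrefl 0 this
  let b := Module.finBasis Dᵐᵒᵖ V
  let scal : L →ₐ[k] Module.End Dᵐᵒᵖ V :=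
    { toFun := fun l =>
        { toFun := fun x => Centralizer.toModOf ρ (l • (Centralizer.toModOf ρ).symm x)
          map_add' := fun x y => by rw [map_add, smul_add, map_add]
          map_smul' := fun r x => by
            obtain ⟨x, rfl⟩ := (Centralizer.toModOf ρ).surjective x
            rw [RingHom.id_apply, Centralizer.smul_toModOf, LinearEquiv.symm_apply_apply,
              LinearEquiv.symm_apply_apply, Centralizer.smul_toModOf, ← rep_smul e r l x] }
      map_one' := LinearMap.ext fun x => by simp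
      map_mul' := fun a b => LinearMap.ext fun x => by simp [mul_smul]
      map_zero' := LinearMap.ext fun x => by simp
      map_add' := fun a b => LinearMap.ext fun x => by simp [add_smul]
      commutes' := fun c => LinearMap.ext fun x => by simp }
  let E : Module.End Dᵐᵒᵖ V ≃ₐ[k] Matrix (Fin m) (Fin m) D :=
    ((b.equivFun).conjAlgEquiv k).trans ((endVecAlgEquivMatrixEnd (Fin m) k Dᵐᵒᵖ Dᵐᵒᵖ).trans
      (((AlgEquiv.moduleEndSelf k (A := Dᵐᵒᵖ)).symm.trans (AlgEquiv.opOp k D).symm).mapMatrix))
  exact ⟨d, m, E.toAlgHom.comp scal, hm, hd, hD, hL⟩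

theorem splitting_iff {k : Type u} [Field k] (A : CSA.{u, u} k) (L : Type u) [Field L] [Algebra k L]
    [FiniteDimensional k L] :
    Curves.Splits k A L ↔ ∃ (B : CSA.{u, u} k) (_ : L →ₐ[k] B), IsBrauerEquivalent A B ∧
      Module.finrank k B = Module.finrank k L ^ 2 := by
  constructor
  · intro h
    obtain ⟨n, hn, D, i1, i2, i3, i4, ⟨e⟩⟩ := Division.exists_matrix (k := k) A
    have hD : Curves.Splits k D L :=
      Splitting.splits_of_matrix L n (Splitting.splits_congr L e.symm h)
    obtain ⟨d, m, f, hm, hd, hdD, hdL⟩ := exists_degree hD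
    have : NeZero m := ⟨hm⟩
    refine ⟨⟨AlgCat.of k (Matrix (Fin m) (Fin m) D)⟩, f, ?_, ?_⟩
    · refine ⟨m, n, hm, NeZero.ne n, ⟨e.mapMatrix.trans ?_⟩⟩
      exact (Matrix.compAlgEquiv _ _ _ _).trans
        ((Matrix.reindexAlgEquiv _ _ (Equiv.prodComm (Fin m) (Fin n))).trans
          (Matrix.compAlgEquiv _ _ _ _).symm)
    · show Module.finrank k (Matrix (Fin m) (Fin m) D) = _
      rw [Module.finrank_matrix, hdD, hdL]
      simp only [Fintype.card_fin]
      ring
  · rintro ⟨B, f, ⟨a, b, ha, hb, ⟨e⟩⟩, hdim⟩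
    have : NeZero a := ⟨ha⟩
    have : NeZero b := ⟨hb⟩
    let φ : L →+* B := f.toRingHom
    letI : Module L B := Module.compHom B
      ((RingHom.op φ).comp (RingEquiv.toOpposite L).toRingHom)
    have hmod : ∀ (l : L) (x : B), l • x = x * f l := fun _ _ => rfl
    have := Splitting.tower_of_mod (k := k) f hmod
    have hrank : Module.finrank L B = Module.finrank k L := by
      have h := Module.finrank_mul_finrank k L B
      rw [hdim, pow_two] at h
      exact Nat.eq_of_mul_eq_mul_left Module.finrank_pos h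
    obtain ⟨g⟩ := Splitting.exists_regular_equiv f hmod f.toRingHom.injective hrank
    exact Splitting.splits_of_matrix L a (Splitting.splits_congr L e
      (Splitting.splits_matrix L b ⟨_, Module.finrank_pos.ne', ⟨g⟩⟩))

end Groth.Agent.Lib.CSA.SplittingModule
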