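import Groth.Agent.Lib.CSA.SkolemNoether
import Mathlib.LinearAlgebra.Matrix.ToLin

/-!
# Uniqueness in the Wedderburn theorem
-/

namespace Groth.Agent.Lib.CSA.Wedderburn

set_option linter.style.haveILetI false

open scoped TensorProduct
open Groth.Agent.Lib.CSA.Simple MulOpposite

universe u v w

variable {k : Type u} [Field k]

/-- Orthogonal nonzero idempotents in a matrix ring over a division ring are at most as many as
the size. -/
theorem card_le_of_orthogonal {D : Type v} [DivisionRing D] {n m : ℕ}
    (e : Fin n → Matrix (Fin m) (Fin m) D) (h0 : ∀ i, e i ≠ 0) (hid : ∀ i, e i * e i = e i)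
    (horth : ∀ i j, i ≠ j → e i * e j = 0) : n ≤ m := by
  classical
  have hv : ∀ i, ∃ v : Fin m → D, (e i).mulVec v ≠ 0 := fun i => by
    by_contra h
    push Not at h
    apply h0 i
    ext a b
    simpa [Matrix.mulVec_single] using congrFun (h (Pi.single b 1)) a
  choose v hv using hv
  have hli : LinearIndependent Dᵐᵒᵖ fun i => (e i).mulVec (v i) := by
    rw [Fintype.linearIndependent_iff]
    intro g hg j
    have h := congrArg (fun z => (e j).mulVec z) hg
    simp only [Matrix.mulVec_sum, Matrix.mulVec_zero, Matrix.mulVec_smul] at h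
    rw [Finset.sum_eq_single j] at h
    · rw [Matrix.mulVec_mulVec, hid] at h
      exact (smul_eq_zero.mp h).resolve_right (hv j)
    · intro i _ hij
      rw [Matrix.mulVec_mulVec, horth j i hij.symm, Matrix.zero_mulVec, smul_zero]
    · simp
  let el : D ≃ₗ[Dᵐᵒᵖ] Dᵐᵒᵖ :=
    { MulOpposite.opAddEquiv with map_smul' := fun c x => by simp }
  haveI : Module.Finite Dᵐᵒᵖ D := Module.Finite.equiv el.symm
  have hspan : Module.finrank Dᵐᵒᵖ (Fin m → D) = m := by
    rw [Module.finrank_pi_fintype, el.finrank_eq]
    simp [Module.finrank_self]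
  simpa [hspan] using hli.fintype_card_le_finrank

/-- The size in Wedderburn's theorem is determined by the algebra. -/
theorem size_le {D : Type v} [DivisionRing D] [Algebra k D] {D' : Type w} [DivisionRing D']
    [Algebra k D'] {n m : ℕ} (f : Matrix (Fin n) (Fin n) D ≃ₐ[k] Matrix (Fin m) (Fin m) D') :
    n ≤ m := by
  classical
  refine card_le_of_orthogonal (fun i => f (Matrix.single i i 1)) (fun i h => ?_) (fun i => ?_)
    (fun i j hij => ?_)
  · simpa using congrFun (congrFun (f.injective (h.trans (map_zero f).symm)) i) i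
  · rw [← map_mul, Matrix.single_mul_single_same, one_mul]
  · rw [← map_mul, Matrix.single_mul_single_of_ne _ _ _ _ hij, map_zero]

theorem size_eq {D : Type v} [DivisionRing D] [Algebra k D] {D' : Type w} [DivisionRing D']
    [Algebra k D'] {n m : ℕ} (f : Matrix (Fin n) (Fin n) D ≃ₐ[k] Matrix (Fin m) (Fin m) D') :
    n = m :=
  le_antisymm (size_le f) (size_le f.symm)

variable {A : Type v} [Ring A] [Algebra k A] {A' : Type w} [Ring A'] [Algebra k A']

/-- Cancellation of matrices: `Mₙ(A) ≅ Mₙ(A')` gives `A ≅ A'`. -/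
theorem nonempty_algEquiv_of_matrix [Algebra.IsCentral k A] [IsSimpleRing A] [FiniteDimensional k A]
    {n : ℕ} (hn : n ≠ 0) (f : Matrix (Fin n) (Fin n) A ≃ₐ[k] Matrix (Fin n) (Fin n) A') :
    Nonempty (A ≃ₐ[k] A') := by
  classical
  haveI : NeZero n := ⟨hn⟩
  let ιA : Matrix (Fin n) (Fin n) k →ₐ[k] Matrix (Fin n) (Fin n) A := (Algebra.ofId k A).mapMatrix
  let ιA' : Matrix (Fin n) (Fin n) k →ₐ[k] Matrix (Fin n) (Fin n) A' :=
    (Algebra.ofId k A').mapMatrix
  obtain ⟨u, hu⟩ := SkolemNoether.skolemNoether ιA (f.symm.toAlgHom.comp ιA')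
  let g : Matrix (Fin n) (Fin n) A →ₐ[k] Matrix (Fin n) (Fin n) A' :=
    { toFun := fun x => f (u * x * ↑u⁻¹)
      map_one' := by simp
      map_mul' := fun x y => by simp [← map_mul, mul_assoc]
      map_zero' := by simp
      map_add' := fun x y => by simp [mul_add, add_mul]
      commutes' := fun c => by
        rw [← Algebra.commutes c (↑u : Matrix (Fin n) (Fin n) A), mul_assoc, Units.mul_inv, mul_one,
          AlgEquiv.commutes] }
  have hg : ∀ M, g (ιA M) = ιA' M := fun M => by
    show f _ = _
    rw [← hu M]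
    exact f.apply_symm_apply _
  have hsc : ∀ a : A, ∃ a' : A', g (Matrix.scalar (Fin n) a) = Matrix.scalar (Fin n) a' := fun a => by
    obtain ⟨a', ha'⟩ := Matrix.mem_range_scalar_of_commute_single
      (M := g (Matrix.scalar (Fin n) a)) fun i j _ => by
        have h1 : (Matrix.single i j 1 : Matrix (Fin n) (Fin n) A') = g (Matrix.single i j 1) := by
          have h := hg (Matrix.single i j 1)
          simpa [ιA, ιA'] using h.symm
        show _ * _ = _ * _
        rw [h1, ← map_mul, ← map_mul]
        congr 1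
        ext p q
        by_cases hp : p = i <;> by_cases hq : q = j <;> simp [Matrix.scalar, Matrix.single, Matrix.mul_apply, Matrix.diagonal, hp, hq, Ne.symm]
    exact ⟨a', ha'.symm⟩
  choose φ hφ using hsc
  have hinjS : Function.Injective (Matrix.scalar (Fin n) : A' → Matrix (Fin n) (Fin n) A') :=
    fun x y h => by simpa using congrFun (congrFun h 0) 0
  have hA : Nonempty (A →ₐ[k] A') := ⟨{
    toFun := φ
    map_one' := hinjS (by rw [← hφ, map_one, map_one, map_one])
    map_mul' := fun x y => hinjS (by rw [← hφ, map_mul, map_mul, hφ, hφ, map_mul])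
    map_zero' := hinjS (by rw [← hφ, map_zero, map_zero, map_zero])
    map_add' := fun x y => hinjS (by rw [← hφ, map_add, map_add, hφ, hφ, map_add])
    commutes' := fun c => hinjS (by
      rw [← hφ]
      have h := g.commutes c
      exact h) }⟩
  obtain ⟨φ'⟩ := hA
  have hdim : Module.finrank k (Matrix (Fin n) (Fin n) A) = Module.finrank k (Matrix (Fin n) (Fin n) A') :=
    f.toLinearEquiv.finrank_eq
  haveI : Module.Finite k (Matrix (Fin n) (Fin n) A') := Module.Finite.equiv f.toLinearEquiv
  haveI : FiniteDimensional k A' :=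
    Module.Finite.of_surjective (Matrix.entryLinearMap k A' (0 : Fin n) (0 : Fin n))
      fun y => ⟨fun _ _ => y, rfl⟩
  rw [Module.finrank_matrix, Module.finrank_matrix] at hdim
  have hdim' : Module.finrank k A = Module.finrank k A' :=
    Nat.eq_of_mul_eq_mul_left (Nat.mul_pos (by simp [Nat.pos_of_ne_zero hn]) (by simp [Nat.pos_of_ne_zero hn])) hdim
  haveI : Nontrivial A' := by
    have h : 0 < Module.finrank k A' := hdim' ▸ Module.finrank_pos
    exact Module.nontrivial_of_finrank_pos h
  have hinj : Function.Injective φ' := RingHom.injective φ'.toRingHom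
  exact ⟨AlgEquiv.ofBijective φ' ⟨hinj,
    (LinearMap.injective_iff_surjective_of_finrank_eq_finrank (f := φ'.toLinearMap) hdim').mp hinj⟩⟩

end Groth.Agent.Lib.CSA.Wedderburn
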