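import Mathlib.Algebra.Central.Basic
import Mathlib.Algebra.Central.TensorProduct
import Mathlib.Algebra.Azumaya.Defs
import Mathlib.RingTheory.SimpleRing.Congr
import Mathlib.RingTheory.SimpleRing.Field
import Mathlib.RingTheory.TwoSidedIdeal.Operations
import Mathlib.LinearAlgebra.TensorProduct.Basis
import Mathlib.RingTheory.TensorProduct.Maps
import Mathlib.RingTheory.TensorProduct.Finite
import Mathlib.LinearAlgebra.Dimension.Constructions
import Mathlib.LinearAlgebra.FiniteDimensional.Lemmas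
import Mathlib.RingTheory.SimpleModule.WedderburnArtin

/-!
# Tensor products with central simple algebras
-/

namespace Groth.Agent.Lib.CSA.Simple

open scoped TensorProduct
open TensorProduct

universe u v w

variable {k : Type u} [Field k] {A : Type v} [Ring A] [Algebra k A]
  {B : Type w} [Ring B] [Algebra k B]

theorem mem_range_of_forall_comm [Algebra.IsCentral k A] {a : A} (h : ∀ x : A, x * a = a * x) :
    a ∈ (algebraMap k A).range := by
  have h' : a ∈ Subalgebra.center k A := Subalgebra.mem_center_iff.mpr h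
  rw [Algebra.IsCentral.center_eq_bot, Algebra.mem_bot] at h'
  obtain ⟨c, hc⟩ := h'
  exact ⟨c, hc⟩

section coeff

variable {ι : Type*} (b : Module.Basis ι k B)

/-- Coefficient of `x : A ⊗ B` along a basis vector of `B`. -/
noncomputable def coeff (i : ι) : A ⊗[k] B →ₗ[k] A :=
  (TensorProduct.rid k A).toLinearMap ∘ₗ LinearMap.lTensor A (b.coord i)

@[simp] theorem coeff_tmul (i : ι) (a : A) (y : B) : coeff b i (a ⊗ₜ y) = b.repr y i • a := by
  simp [coeff]

theorem coeff_left_mul (i : ι) (a : A) (x : A ⊗[k] B) :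
    coeff b i ((a ⊗ₜ 1) * x) = a * coeff b i x := by
  induction x using TensorProduct.induction_on with
  | zero => simp
  | tmul c y => simp [mul_smul_comm]
  | add x y hx hy => simp [mul_add, hx, hy]

theorem coeff_right_mul (i : ι) (a : A) (x : A ⊗[k] B) :
    coeff b i (x * (a ⊗ₜ 1)) = coeff b i x * a := by
  induction x using TensorProduct.induction_on with
  | zero => simp
  | tmul c y => simp [smul_mul_assoc]
  | add x y hx hy => simp [add_mul, hx, hy]

theorem exists_finset_sum (x : A ⊗[k] B) :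
    ∃ s : Finset ι, (∀ i, i ∉ s → coeff b i x = 0) ∧ x = ∑ i ∈ s, coeff b i x ⊗ₜ b i := by
  classical
  induction x using TensorProduct.induction_on with
  | zero => exact ⟨∅, by simp, by simp⟩
  | tmul a y =>
    refine ⟨(b.repr y).support, fun i hi => by simp [Finsupp.notMem_support_iff.mp hi], ?_⟩
    conv_lhs => rw [← b.linearCombination_repr y, Finsupp.linearCombination_apply, Finsupp.sum]
    rw [TensorProduct.tmul_sum]
    simp [TensorProduct.smul_tmul]
  | add x y hx hy =>
    obtain ⟨s, hs, hs'⟩ := hx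
    obtain ⟨t, ht, ht'⟩ := hy
    refine ⟨s ∪ t, fun i hi => ?_, ?_⟩
    · simp only [Finset.mem_union, not_or] at hi
      simp [hs i hi.1, ht i hi.2]
    · have hs'' : x = ∑ i ∈ s ∪ t, coeff b i x ⊗ₜ b i := by
        rw [← Finset.sum_subset Finset.subset_union_left (fun i _ hi => by simp [hs i hi])]
        exact hs'
      have ht'' : y = ∑ i ∈ s ∪ t, coeff b i y ⊗ₜ b i := by
        rw [← Finset.sum_subset Finset.subset_union_right (fun i _ hi => by simp [ht i hi])]
        exact ht'
      simp only [map_add, TensorProduct.add_tmul, Finset.sum_add_distrib]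
      rw [← hs'', ← ht'']

theorem eq_zero_of_coeff {x : A ⊗[k] B} (h : ∀ i, coeff b i x = 0) : x = 0 := by
  obtain ⟨s, _, hs⟩ := exists_finset_sum b x
  simpa [h] using hs

end coeff

/-- The centraliser of `A ⊗ 1` in `A ⊗ B` is `1 ⊗ B`, for `A` central. -/
theorem exists_eq_one_tmul_of_commute [Algebra.IsCentral k A] (x : A ⊗[k] B)
    (hx : ∀ a : A, (a ⊗ₜ (1 : B)) * x = x * (a ⊗ₜ 1)) : ∃ y : B, x = 1 ⊗ₜ y := by
  classical
  let b := Module.Free.chooseBasis k B
  obtain ⟨s, _, hs⟩ := exists_finset_sum b x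
  have hc : ∀ i, ∃ c : k, algebraMap k A c = coeff b i x := fun i =>
    mem_range_of_forall_comm fun a => by rw [← coeff_left_mul, hx a, coeff_right_mul]
  choose c hc using hc
  refine ⟨∑ i ∈ s, c i • b i, ?_⟩
  rw [TensorProduct.tmul_sum]
  refine hs.trans (Finset.sum_congr rfl fun i _ => ?_)
  rw [← hc i, Algebra.algebraMap_eq_smul_one, TensorProduct.smul_tmul]

theorem one_tmul_mem_center {y : B} :
    ((1 : A) ⊗ₜ[k] y) ∈ Subalgebra.center k (A ⊗[k] B) ↔
      (∀ z : B, (1 : A) ⊗ₜ[k] (z * y - y * z) = 0) := by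
  constructor
  · intro h z
    have := Subalgebra.mem_center_iff.mp h (1 ⊗ₜ z)
    simp only [Algebra.TensorProduct.tmul_mul_tmul, mul_one] at this
    simp [TensorProduct.tmul_sub, this]
  · intro h
    rw [Subalgebra.mem_center_iff]
    intro x
    induction x using TensorProduct.induction_on with
    | zero => simp
    | tmul a z =>
      have h' := h z
      rw [TensorProduct.tmul_sub, sub_eq_zero] at h'
      have h₁ : (a ⊗ₜ[k] z) = (a ⊗ₜ 1) * (1 ⊗ₜ z) := by simp
      have h₂ : (1 ⊗ₜ[k] y) * (a ⊗ₜ 1) = (a ⊗ₜ 1) * ((1 : A) ⊗ₜ y) := by simp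
      rw [h₁, mul_assoc, ← mul_assoc ((1 : A) ⊗ₜ y), h₂, mul_assoc]
      simp only [Algebra.TensorProduct.tmul_mul_tmul, mul_one] at h' ⊢
      simp only [one_mul]
      have := congrArg ((a ⊗ₜ[k] (1 : B)) * ·) h'
      simpa using this
    | add x y hx hy => simp [add_mul, mul_add, hx, hy]

/-- A nonzero two-sided ideal of `A ⊗ B` meets `1 ⊗ B` nontrivially, for `A` central simple. -/
theorem exists_one_tmul_mem [Algebra.IsCentral k A] [IsSimpleRing A]
    (I : TwoSidedIdeal (A ⊗[k] B)) (hI : I ≠ ⊥) :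
    ∃ y : B, y ≠ 0 ∧ (1 : A) ⊗ₜ[k] y ∈ I := by
  classical
  let b := Module.Free.chooseBasis k B
  have hex : ∃ n, ∃ x ∈ I, x ≠ 0 ∧ ∃ s : Finset (Module.Free.ChooseBasisIndex k B),
      s.card = n ∧ ∀ i, i ∉ s → coeff b i x = 0 := by
    obtain ⟨x, hx, hx0⟩ : ∃ x ∈ I, x ≠ 0 := by
      by_contra h
      apply hI
      refine le_antisymm (fun x hx => ?_) bot_le
      push Not at h
      exact (TwoSidedIdeal.mem_bot _).mpr (h x hx)
    obtain ⟨s, hs, _⟩ := exists_finset_sum b x
    exact ⟨_, x, hx, hx0, s, rfl, hs⟩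
  obtain ⟨x, hxI, hx0, s, hsc, hs⟩ := Nat.find_spec hex
  have hmin : ∀ z ∈ I, ∀ t : Finset (Module.Free.ChooseBasisIndex k B),
      t.card < s.card → (∀ i, i ∉ t → coeff b i z = 0) → z = 0 := by
    intro z hz t ht htz
    by_contra hz0
    exact Nat.find_min hex (hsc ▸ ht) ⟨z, hz, hz0, t, rfl, htz⟩
  obtain ⟨i₀, hi₀s, hi₀⟩ : ∃ i₀ ∈ s, coeff b i₀ x ≠ 0 := by
    by_contra h
    push Not at h
    refine hx0 (eq_zero_of_coeff b fun i => ?_)
    by_cases hi : i ∈ s
    · exact h i hi
    · exact hs i hi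
  let J : TwoSidedIdeal A := TwoSidedIdeal.mk'
    {a | ∃ z ∈ I, (∀ i, i ∉ s → coeff b i z = 0) ∧ coeff b i₀ z = a}
    ⟨0, I.zero_mem, by simp, by simp⟩
    (by
      rintro _ _ ⟨z, hz, hzs, rfl⟩ ⟨w, hw, hws, rfl⟩
      exact ⟨z + w, I.add_mem hz hw, fun i hi => by simp [hzs i hi, hws i hi], by simp⟩)
    (by
      rintro _ ⟨z, hz, hzs, rfl⟩
      exact ⟨-z, I.neg_mem hz, fun i hi => by simp [hzs i hi], by simp⟩)
    (by
      rintro a _ ⟨z, hz, hzs, rfl⟩
      exact ⟨(a ⊗ₜ 1) * z, I.mul_mem_left _ _ hz,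
        fun i hi => by simp [coeff_left_mul, hzs i hi], coeff_left_mul b _ _ _⟩)
    (by
      rintro _ a ⟨z, hz, hzs, rfl⟩
      exact ⟨z * (a ⊗ₜ 1), I.mul_mem_right _ _ hz,
        fun i hi => by simp [coeff_right_mul, hzs i hi], coeff_right_mul b _ _ _⟩)
  have h1 : (1 : A) ∈ J := by
    refine IsSimpleRing.one_mem_of_ne_zero_mem J hi₀ ?_
    simp only [J, TwoSidedIdeal.mem_mk', Set.mem_setOf_eq]
    exact ⟨x, hxI, hs, rfl⟩
  simp only [J, TwoSidedIdeal.mem_mk', Set.mem_setOf_eq] at h1
  obtain ⟨z, hzI, hzs, hz1⟩ := h1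
  have hcomm : ∀ a : A, (a ⊗ₜ (1 : B)) * z = z * (a ⊗ₜ 1) := fun a => by
    refine sub_eq_zero.mp (hmin _ (I.sub_mem (I.mul_mem_left _ _ hzI) (I.mul_mem_right _ _ hzI))
      (s.erase i₀) (Finset.card_erase_lt_of_mem hi₀s) fun i hi => ?_)
    simp only [map_sub, coeff_left_mul, coeff_right_mul]
    by_cases hii : i = i₀
    · subst hii; simp [hz1]
    · simp [hzs i (fun h => hi (Finset.mem_erase.mpr ⟨hii, h⟩))]
  obtain ⟨y, rfl⟩ := exists_eq_one_tmul_of_commute z hcomm
  refine ⟨y, ?_, hzI⟩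
  rintro rfl
  rw [TensorProduct.tmul_zero, map_zero] at hz1
  exact one_ne_zero hz1.symm

theorem nontrivial_tensor [Nontrivial A] [Nontrivial B] : Nontrivial (A ⊗[k] B) :=
  Algebra.TensorProduct.nontrivial_of_algebraMap_injective_of_flat_left k A B
    (algebraMap k B).injective

/-- Central simple tensor simple is simple. -/
theorem isSimpleRing_tensor (k : Type u) [Field k] (A : Type v) [Ring A] [Algebra k A]
    (B : Type w) [Ring B] [Algebra k B] [Algebra.IsCentral k A] [IsSimpleRing A]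
    [IsSimpleRing B] : IsSimpleRing (A ⊗[k] B) := by
  haveI := nontrivial_tensor (k := k) (A := A) (B := B)
  refine IsSimpleRing.of_eq_bot_or_eq_top fun I => ?_
  by_cases hI : I = ⊥
  · exact Or.inl hI
  · refine Or.inr ?_
    obtain ⟨y, hy0, hy⟩ := exists_one_tmul_mem I hI
    let J : TwoSidedIdeal B := TwoSidedIdeal.comap
      (Algebra.TensorProduct.includeRight (R := k) (A := A) (B := B)) I
    have h1 : (1 : B) ∈ J :=
      IsSimpleRing.one_mem_of_ne_zero_mem J hy0 ((TwoSidedIdeal.mem_comap _).mpr hy)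
    have h1' := (TwoSidedIdeal.mem_comap _).mp h1
    exact TwoSidedIdeal.one_mem_iff _ |>.mp (by simpa [Algebra.TensorProduct.one_def] using h1')

theorem isSimpleRing_tensor_right (k : Type u) [Field k] (A : Type v) [Ring A] [Algebra k A]
    (B : Type w) [Ring B] [Algebra k B] [Algebra.IsCentral k B] [IsSimpleRing A]
    [IsSimpleRing B] : IsSimpleRing (A ⊗[k] B) :=
  IsSimpleRing.of_ringEquiv (Algebra.TensorProduct.comm k B A).toRingEquiv
    (isSimpleRing_tensor k B A)

/-- Central tensor central is central. -/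
theorem isCentral_tensor (k : Type u) [Field k] (A : Type v) [Ring A] [Algebra k A]
    (B : Type w) [Ring B] [Algebra k B] [Algebra.IsCentral k A] [Algebra.IsCentral k B] :
    Algebra.IsCentral k (A ⊗[k] B) := by
  refine ⟨fun x hx => ?_⟩
  rw [Subalgebra.mem_center_iff] at hx
  rcases subsingleton_or_nontrivial A with hA | hA
  · have : x = 0 := by
      rw [← one_mul x, show (1 : A ⊗[k] B) = (1 : A) ⊗ₜ 1 from rfl, Subsingleton.elim (1 : A) 0,
        TensorProduct.zero_tmul, zero_mul]
    rw [this]; exact zero_mem _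
  obtain ⟨y, rfl⟩ := exists_eq_one_tmul_of_commute x fun a => hx _
  obtain ⟨c, hc⟩ : y ∈ (algebraMap k B).range := mem_range_of_forall_comm fun z => by
    have h' := hx (1 ⊗ₜ z)
    simp only [Algebra.TensorProduct.tmul_mul_tmul, mul_one] at h'
    exact Algebra.TensorProduct.includeRight_injective (algebraMap k A).injective h'
  rw [Algebra.mem_bot]
  exact ⟨c, by simp [← hc, Algebra.algebraMap_eq_smul_one, Algebra.TensorProduct.one_def,
    TensorProduct.smul_tmul']⟩

/-- Base change of a central algebra is central over the bigger field. -/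
theorem isCentral_baseChange (k : Type u) [Field k] (K : Type w) [Field K] [Algebra k K]
    (A : Type v) [Ring A] [Algebra k A] [Algebra.IsCentral k A] :
    Algebra.IsCentral K (K ⊗[k] A) := by
  refine ⟨fun x hx => ?_⟩
  rw [Subalgebra.mem_center_iff] at hx
  obtain ⟨y, hy⟩ := exists_eq_one_tmul_of_commute (A := A) (B := K)
    (Algebra.TensorProduct.comm k K A x) fun a => by
      have h' := congrArg (Algebra.TensorProduct.comm k K A) (hx (1 ⊗ₜ a))
      simpa using h'
  have : x = y ⊗ₜ 1 := by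
    have h' := congrArg (Algebra.TensorProduct.comm k K A).symm hy
    simpa using h'
  rw [this, Algebra.mem_bot]
  exact ⟨y, rfl⟩

theorem isSimpleRing_baseChange (k : Type u) [Field k] (K : Type w) [Field K] [Algebra k K]
    (A : Type v) [Ring A] [Algebra k A] [Algebra.IsCentral k A] [IsSimpleRing A] :
    IsSimpleRing (K ⊗[k] A) :=
  isSimpleRing_tensor_right k K A

end Groth.Agent.Lib.CSA.Simple
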