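import Groth.Agent.Lib.CSA.Tensor
import Mathlib.Algebra.Azumaya.Defs
import Mathlib.Algebra.Central.Matrix
import Mathlib.RingTheory.SimpleModule.WedderburnArtin
import Mathlib.RingTheory.Artinian.Module
import Mathlib.LinearAlgebra.Dimension.Constructions
import Mathlib.LinearAlgebra.FiniteDimensional.Basic

/-!
# Double centralizer and Skolem-Noether
-/

open scoped TensorProduct
open MulOpposite

namespace Groth.Agent.Lib.CSA.Centralizer

universe u v w

section SimpleAlgebra

variable {k : Type u} [Field k] (R : Type*) [Ring R] [Algebra k R] [IsSimpleRing R] [FiniteDimensional k R]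

include k in
/-- Every finite module over a finite simple algebra is a power of one simple left ideal. -/
theorem exists_simple_ideal : ∃ (n : ℕ) (S : Submodule R R), n ≠ 0 ∧ IsSimpleModule R S ∧
    Nonempty (R ≃ₗ[R] Fin n → S) ∧
    ∀ (M : Type v) [AddCommGroup M] [Module R M] [Module.Finite R M],
      ∃ m : ℕ, Nonempty (M ≃ₗ[R] Fin m → S) := by
  have : IsArtinianRing R := IsArtinianRing.of_finite k R
  obtain ⟨n, hn, S, hS, he⟩ := (IsSimpleRing.isIsotypic R R).linearEquiv_fun
  refine ⟨n, S, hn.out, hS, he, fun M _ _ _ => ?_⟩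
  have hM : IsIsotypicOfType R M S := fun m hm => by
    obtain ⟨I, ⟨e⟩⟩ := IsSemisimpleRing.exists_linearEquiv_ideal_of_isSimpleModule R m
    have := IsSimpleModule.congr e.symm
    obtain ⟨e'⟩ := IsSimpleRing.isIsotypic R R S I
    exact ⟨e.trans e'⟩
  exact hM.linearEquiv_fun

variable {R} {M : Type v} [AddCommGroup M] [Module k M] [Module R M] [IsScalarTower k R M]
  [FiniteDimensional k M]

variable (k) in
theorem finrank_mul_finrank_end : Module.finrank k R * Module.finrank k (Module.End R M) =
    Module.finrank k M ^ 2 := by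
  classical
  have : Module.Finite R M := Module.Finite.of_restrictScalars_finite k R M
  obtain ⟨n, S, hn, hS, ⟨eR⟩, hall⟩ := exists_simple_ideal.{u, v} (k := k) R
  obtain ⟨m, ⟨eM⟩⟩ := hall M
  have hR : Module.finrank k R = n * Module.finrank k S := by
    rw [(eR.restrictScalars k).finrank_eq, Module.finrank_pi_fintype]; simp
  have hM : Module.finrank k M = m * Module.finrank k S := by
    rw [(eM.restrictScalars k).finrank_eq, Module.finrank_pi_fintype]; simp
  have hEM : Module.finrank k (Module.End R M) = m * m * Module.finrank k (Module.End R S) := by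
    rw [((eM.conjAlgEquiv k).trans (endVecAlgEquivMatrixEnd (Fin m) k R S)).toLinearEquiv.finrank_eq,
      Module.finrank_matrix]
    simp
  have hER : Module.finrank k R = n * n * Module.finrank k (Module.End R S) := by
    rw [(MulOpposite.opLinearEquiv k : R ≃ₗ[k] Rᵐᵒᵖ).finrank_eq,
      ((AlgEquiv.moduleEndSelf k).trans ((eR.conjAlgEquiv k).trans
        (endVecAlgEquivMatrixEnd (Fin n) k R S))).toLinearEquiv.finrank_eq, Module.finrank_matrix]
    simp
  have hS' : Module.finrank k S = n * Module.finrank k (Module.End R S) :=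
    Nat.eq_of_mul_eq_mul_left (Nat.pos_of_ne_zero hn) (by rw [← hR, hER, mul_assoc])
  rw [hEM, hM, hS', hER]
  ring

variable (k) in
theorem nonempty_linearEquiv_of_finrank_eq {N : Type v} [AddCommGroup N] [Module k N] [Module R N]
    [IsScalarTower k R N] [FiniteDimensional k N] (h : Module.finrank k M = Module.finrank k N) :
    Nonempty (M ≃ₗ[R] N) := by
  have : Module.Finite R M := Module.Finite.of_restrictScalars_finite k R M
  have : Module.Finite R N := Module.Finite.of_restrictScalars_finite k R N
  obtain ⟨n, S, hn, hS, -, hall⟩ := exists_simple_ideal.{u, v} (k := k) R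
  obtain ⟨m, ⟨eM⟩⟩ := hall M
  obtain ⟨m', ⟨eN⟩⟩ := hall N
  have : Nontrivial S := IsSimpleModule.nontrivial R S
  have hpos : 0 < Module.finrank k S := Module.finrank_pos
  rw [(eM.restrictScalars k).finrank_eq, (eN.restrictScalars k).finrank_eq,
    Module.finrank_pi_fintype, Module.finrank_pi_fintype] at h
  simp only [Finset.sum_const, Finset.card_univ, Fintype.card_fin, smul_eq_mul] at h
  obtain rfl := Nat.eq_of_mul_eq_mul_right hpos h
  exact ⟨eM.trans eN.symm⟩

include k in
theorem isSimpleRing_end [Nontrivial M] : IsSimpleRing (Module.End R M) := by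
  classical
  have : Module.Finite R M := Module.Finite.of_restrictScalars_finite k R M
  obtain ⟨n, S, hn, hS, -, hall⟩ := exists_simple_ideal.{u, v} (k := k) R
  obtain ⟨m, ⟨eM⟩⟩ := hall M
  have : NeZero m := ⟨by rintro rfl; exact not_subsingleton M eM.toEquiv.subsingleton⟩
  exact .of_ringEquiv ((eM.conjAlgEquiv ℕ).trans (endVecAlgEquivMatrixEnd (Fin m) ℕ R S)).toRingEquiv.symm
    inferInstance

end SimpleAlgebra

section ModOf

variable {k : Type u} [Field k] {R : Type w} [Ring R] [Algebra k R] {M : Type v} [AddCommGroup M]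
  [Module k M]

/-- The module given by a representation. -/
def ModOf (_ρ : R →ₐ[k] Module.End k M) := M

variable (ρ : R →ₐ[k] Module.End k M)

instance instAddCommGroupModOf : AddCommGroup (ModOf ρ) := inferInstanceAs (AddCommGroup M)
noncomputable instance instModuleBaseModOf : Module k (ModOf ρ) := inferInstanceAs (Module k M)
noncomputable instance instModuleModOf : Module R (ModOf ρ) := Module.compHom M ρ.toRingHom
instance instFiniteModOf [Module.Finite k M] : Module.Finite k (ModOf ρ) :=
  inferInstanceAs (Module.Finite k M)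

/-- The identification of `M` with `ModOf ρ`. -/
noncomputable def toModOf : M ≃ₗ[k] ModOf ρ := LinearEquiv.refl k M

theorem smul_toModOf (r : R) (m : M) : r • toModOf ρ m = toModOf ρ (ρ r m) := rfl

instance instTowerModOf : IsScalarTower k R (ModOf ρ) where
  smul_assoc c r m := by
    obtain ⟨m, rfl⟩ := (toModOf ρ).surjective m
    rw [smul_toModOf, smul_toModOf, map_smul, LinearMap.smul_apply, map_smul]

end ModOf

variable {k : Type u} [Field k] {A : Type v} [Ring A] [Algebra k A]
variable {B : Type w} [Ring B] [Algebra k B]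

/-- `A` as a representation of `B ⊗ Aᵐᵒᵖ` through `f`. -/
noncomputable def rho (f : B →ₐ[k] A) : B ⊗[k] Aᵐᵒᵖ →ₐ[k] Module.End k A :=
  (AlgHom.mulLeftRight k A).comp (Algebra.TensorProduct.map f (AlgHom.id k Aᵐᵒᵖ))

theorem rho_apply (f : B →ₐ[k] A) (b : B) (a x : A) : rho f (b ⊗ₜ op a) x = f b * x * a := by
  simp [rho]

theorem rho_comm (f : B →ₐ[k] A) {c : A} (hc : c ∈ Subalgebra.centralizer k (f.range : Set A))
    (r : B ⊗[k] Aᵐᵒᵖ) (x : A) : c * rho f r x = rho f r (c * x) := by
  induction r with
  | zero => simp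
  | tmul b a =>
    obtain ⟨a, rfl⟩ := MulOpposite.op_surjective a
    have hb : f b * c = c * f b := Subalgebra.mem_centralizer_iff k |>.mp hc (f b) ⟨b, rfl⟩
    rw [rho_apply, rho_apply, ← mul_assoc (f b), hb]
    simp only [mul_assoc]
  | add r s hr hs => simp [map_add, mul_add, hr, hs]

/-- Left multiplication by an element of the centralizer. -/
noncomputable def centralizerMap (f : B →ₐ[k] A)
    (c : Subalgebra.centralizer k (f.range : Set A)) : Module.End (B ⊗[k] Aᵐᵒᵖ) (ModOf (rho f)) where
  toFun x := toModOf _ ((c : A) * (toModOf _).symm x)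
  map_add' x y := by simp only [map_add, mul_add]
  map_smul' r x := by
    obtain ⟨x, rfl⟩ := (toModOf (rho f)).surjective x
    rw [RingHom.id_apply, smul_toModOf, LinearEquiv.symm_apply_apply,
      LinearEquiv.symm_apply_apply, smul_toModOf, rho_comm f c.2]

theorem centralizerMap_apply (f : B →ₐ[k] A) (c : Subalgebra.centralizer k (f.range : Set A)) (x : A) :
    centralizerMap f c (toModOf (rho f) x) = toModOf (rho f) ((c : A) * x) := by
  show toModOf _ ((c : A) * (toModOf _).symm (toModOf _ x)) = _
  rw [LinearEquiv.symm_apply_apply]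

theorem end_ext (f : B →ₐ[k] A) {φ ψ : Module.End (B ⊗[k] Aᵐᵒᵖ) (ModOf (rho f))}
    (h : ∀ x, φ (toModOf (rho f) x) = ψ (toModOf (rho f) x)) : φ = ψ := by
  refine LinearMap.ext fun y => ?_
  obtain ⟨x, rfl⟩ := (toModOf (rho f)).surjective y
  exact h x

theorem centralizerMap_surjective (f : B →ₐ[k] A) : Function.Surjective (centralizerMap f) := by
  intro φ
  let c := (toModOf (rho f)).symm (φ (toModOf (rho f) 1))
  have hφ : ∀ (b : B) (a : A), φ (toModOf (rho f) (f b * a)) = toModOf (rho f) (f b * c * a) := by
    intro b a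
    have h := φ.map_smul (b ⊗ₜ op a) (toModOf (rho f) 1)
    rw [smul_toModOf, rho_apply, mul_one] at h
    rw [h, ← (toModOf (rho f)).apply_symm_apply (φ (toModOf (rho f) 1)), smul_toModOf, rho_apply]
  have hr : ∀ a, φ (toModOf (rho f) a) = toModOf (rho f) (c * a) := fun a => by
    have := hφ 1 a
    rwa [map_one, one_mul, one_mul] at this
  refine ⟨⟨c, Subalgebra.mem_centralizer_iff k |>.mpr ?_⟩, ?_⟩
  · rintro _ ⟨b, rfl⟩
    have h := hφ b 1
    rw [mul_one, mul_one, hr] at h
    exact ((toModOf (rho f)).injective h).symm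
  · exact end_ext f fun x => by rw [centralizerMap_apply, hr]

/-- The centralizer of `range f` as the endomorphism ring. -/
noncomputable def centralizerEquiv (f : B →ₐ[k] A) :
    Subalgebra.centralizer k (f.range : Set A) ≃ₐ[k] Module.End (B ⊗[k] Aᵐᵒᵖ) (ModOf (rho f)) :=
  AlgEquiv.ofBijective
    { toFun := centralizerMap f
      map_one' := end_ext f fun x => by rw [centralizerMap_apply]; simp
      map_mul' := fun c d => end_ext f fun x => by
        rw [centralizerMap_apply, Module.End.mul_apply, centralizerMap_apply, centralizerMap_apply]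
        simp [mul_assoc]
      map_zero' := end_ext f fun x => by rw [centralizerMap_apply]; simp
      map_add' := fun c d => end_ext f fun x => by
        rw [centralizerMap_apply, LinearMap.add_apply, centralizerMap_apply, centralizerMap_apply]
        simp [add_mul]
      commutes' := fun r => end_ext f fun x => by
        rw [centralizerMap_apply, Module.algebraMap_end_apply, ← map_smul, Algebra.smul_def]
        rfl }
    ⟨fun c d h => Subtype.ext (by
      have h1 := LinearMap.congr_fun h (toModOf (rho f) 1)
      simp only [AlgHom.coe_mk, RingHom.coe_mk, MonoidHom.coe_mk, OneHom.coe_mk,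
        centralizerMap_apply, mul_one] at h1
      exact (toModOf (rho f)).injective h1),
    centralizerMap_surjective f⟩

variable [Algebra.IsCentral k A] [IsSimpleRing A]

theorem isSimpleRing_rhoDomain [IsSimpleRing B] : IsSimpleRing (B ⊗[k] Aᵐᵒᵖ) :=
  Tensor.isSimpleRing_tensor

variable [FiniteDimensional k A]

theorem finiteDimensional_of_algHom [IsSimpleRing B] (f : B →ₐ[k] A) : FiniteDimensional k B :=
  FiniteDimensional.of_injective f.toLinearMap f.toRingHom.injective

theorem finrank_mul_centralizer [IsSimpleRing B] (f : B →ₐ[k] A) :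
    Module.finrank k B * Module.finrank k (Subalgebra.centralizer k (f.range : Set A)) =
      Module.finrank k A := by
  have := finiteDimensional_of_algHom f
  have : IsSimpleRing (B ⊗[k] Aᵐᵒᵖ) := isSimpleRing_rhoDomain
  have h := finrank_mul_finrank_end k (R := B ⊗[k] Aᵐᵒᵖ) (M := ModOf (rho f))
  rw [← (centralizerEquiv f).toLinearEquiv.finrank_eq, Module.finrank_tensorProduct,
    ← (toModOf (rho f)).finrank_eq, ← (MulOpposite.opLinearEquiv k : A ≃ₗ[k] Aᵐᵒᵖ).finrank_eq] at h
  have hpos : 0 < Module.finrank k A := Module.finrank_pos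
  refine Nat.eq_of_mul_eq_mul_right hpos ?_
  rw [← pow_two, ← h]
  ring

theorem isSimpleRing_centralizer [IsSimpleRing B] (f : B →ₐ[k] A) :
    IsSimpleRing (Subalgebra.centralizer k (f.range : Set A)) := by
  have := finiteDimensional_of_algHom f
  have : IsSimpleRing (B ⊗[k] Aᵐᵒᵖ) := isSimpleRing_rhoDomain
  have : Nontrivial (ModOf (rho f)) := (toModOf (rho f)).symm.toEquiv.nontrivial
  exact .of_ringEquiv (centralizerEquiv f).toRingEquiv.symm
    (isSimpleRing_end (k := k) (R := B ⊗[k] Aᵐᵒᵖ) (M := ModOf (rho f)))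

theorem double_centralizer (B : Subalgebra k A) [IsSimpleRing B] :
    Subalgebra.centralizer k (Subalgebra.centralizer k (B : Set A) : Set A) = B := by
  set C := Subalgebra.centralizer k (B : Set A)
  have hB := finrank_mul_centralizer B.val
  rw [Subalgebra.range_val] at hB
  have hC' : IsSimpleRing C := by
    have := isSimpleRing_centralizer B.val
    rwa [Subalgebra.range_val] at this
  have hC := finrank_mul_centralizer C.val
  rw [Subalgebra.range_val, ← hB] at hC
  have hpos : 0 < Module.finrank k C := Module.finrank_pos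
  rw [mul_comm (Module.finrank k B)] at hC
  refine (Subalgebra.eq_of_le_of_finrank_le ?_ (Nat.eq_of_mul_eq_mul_left hpos hC).le).symm
  intro b hb
  rw [Subalgebra.mem_centralizer_iff]
  exact fun c hc => (Subalgebra.mem_centralizer_iff k |>.mp hc b hb).symm

theorem skolem_noether [IsSimpleRing B] (f g : B →ₐ[k] A) :
    ∃ x : Aˣ, ∀ b : B, f b = (x : A) * g b * (x⁻¹ : Aˣ) := by
  have := finiteDimensional_of_algHom f
  have : IsSimpleRing (B ⊗[k] Aᵐᵒᵖ) := isSimpleRing_rhoDomain
  obtain ⟨e⟩ := nonempty_linearEquiv_of_finrank_eq k (R := B ⊗[k] Aᵐᵒᵖ) (M := ModOf (rho g))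
    (N := ModOf (rho f)) ((toModOf (rho g)).finrank_eq.symm.trans (toModOf (rho f)).finrank_eq)
  let x := (toModOf (rho f)).symm (e (toModOf (rho g) 1))
  have key : ∀ b a, e (toModOf (rho g) (g b * a)) = toModOf (rho f) (f b * x * a) := fun b a => by
    have h := e.map_smul (b ⊗ₜ op a) (toModOf (rho g) 1)
    rw [smul_toModOf, rho_apply, mul_one] at h
    rw [h]
    conv_lhs => rw [← (toModOf (rho f)).apply_symm_apply (e (toModOf (rho g) 1)), smul_toModOf, rho_apply]
  obtain ⟨y, hy⟩ := e.surjective (toModOf (rho f) 1)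
  obtain ⟨y, rfl⟩ := (toModOf (rho g)).surjective y
  have hxy : x * y = 1 := by
    have := key 1 y
    simp only [map_one, one_mul, hy] at this
    exact ((toModOf (rho f)).injective this).symm
  have hyx : y * x = 1 := by
    have hinj : Function.Injective (LinearMap.mulLeft k x) :=
      LinearMap.injective_iff_surjective.mpr fun z => ⟨y * z, by simp [← mul_assoc, hxy]⟩
    exact hinj (by simp [← mul_assoc, hxy])
  refine ⟨⟨x, y, hxy, hyx⟩, fun b => ?_⟩
  have h1 := key b 1
  have h2 := key 1 (g b)
  simp only [map_one, one_mul, mul_one] at h1 h2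
  rw [h1] at h2
  have h3 := (toModOf (rho f)).injective h2
  simp only [Units.inv_mk]
  rw [← h3, mul_assoc, hxy, mul_one]

end Groth.Agent.Lib.CSA.Centralizer
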