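import Mathlib.Algebra.Central.Basic
import Mathlib.RingTheory.TensorProduct.Maps
import Mathlib.LinearAlgebra.TensorProduct.Basis
import Mathlib.LinearAlgebra.TensorProduct.RightExactness
import Mathlib.LinearAlgebra.Basis.VectorSpace
import Mathlib.RingTheory.SimpleRing.Basic
import Mathlib.RingTheory.SimpleRing.Congr
import Mathlib.RingTheory.TwoSidedIdeal.Operations
import Mathlib.RingTheory.Flat.Basic
import Mathlib.LinearAlgebra.Dimension.Free

/-!
# Two-sided ideals and centralizers in tensor products with a central simple algebra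
-/

open scoped TensorProduct

namespace Groth.Agent.Lib.CSA.Tensor

universe u v w

variable {k : Type u} [Field k] {A : Type v} [Ring A] [Algebra k A] {B : Type w} [Ring B] [Algebra k B]

theorem equivFinsupp_one_tmul_mul {ι : Type*} [DecidableEq ι] (bA : Module.Basis ι k A) (c : B) (x : A ⊗[k] B) (i : ι) :
    TensorProduct.equivFinsuppOfBasisLeft bA ((1 ⊗ₜ c) * x) i = c * TensorProduct.equivFinsuppOfBasisLeft bA x i := by
  induction x with
  | zero => simp
  | tmul a b => simp [Algebra.TensorProduct.tmul_mul_tmul]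
  | add x y hx hy => simp [mul_add, hx, hy]

theorem equivFinsupp_mul_one_tmul {ι : Type*} [DecidableEq ι] (bA : Module.Basis ι k A) (c : B) (x : A ⊗[k] B) (i : ι) :
    TensorProduct.equivFinsuppOfBasisLeft bA (x * (1 ⊗ₜ c)) i = TensorProduct.equivFinsuppOfBasisLeft bA x i * c := by
  induction x with
  | zero => simp
  | tmul a b => simp [Algebra.TensorProduct.tmul_mul_tmul]
  | add x y hx hy => simp [add_mul, hx, hy]

/-- The elements commuting with `1 ⊗ B` are exactly the `a ⊗ 1`. -/
theorem mem_range_tmul_one_of_commute [Algebra.IsCentral k B] (x : A ⊗[k] B)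
    (hx : ∀ c : B, Commute ((1 : A) ⊗ₜ[k] c) x) : ∃ a : A, x = a ⊗ₜ[k] 1 := by
  classical
  let bA := Module.Free.chooseBasis k A
  let e := TensorProduct.equivFinsuppOfBasisLeft (N := B) bA
  have h : ∀ i, e x i ∈ Set.range (algebraMap k B) := fun i => by
    have hm : e x i ∈ Subalgebra.center k B := by
      rw [Subalgebra.mem_center_iff]
      intro c
      have := congr_arg (fun z => e z i) (hx c).eq
      simpa [e, equivFinsupp_one_tmul_mul, equivFinsupp_mul_one_tmul] using this
    rw [Algebra.IsCentral.center_eq_bot, Algebra.mem_bot] at hm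
    exact hm
  choose r hr using h
  refine ⟨(e x).sum fun i _ => r i • bA i, ?_⟩
  conv_lhs => rw [← e.symm_apply_apply x]
  rw [TensorProduct.equivFinsuppOfBasisLeft_symm_apply, Finsupp.sum, Finsupp.sum,
    TensorProduct.sum_tmul]
  refine Finset.sum_congr rfl fun i _ => ?_
  rw [TensorProduct.smul_tmul, ← hr i, Algebra.algebraMap_eq_smul_one]

/-- A two-sided ideal of `A ⊗ B`, `B` central simple, consists of the image of `J ⊗ B`, where
`J = {a | a ⊗ 1 ∈ I}`. -/
theorem twoSidedIdeal_le [Algebra.IsCentral k B] [IsSimpleRing B] (I : TwoSidedIdeal (A ⊗[k] B))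
    (J : Submodule k A) (hJ : ∀ a, a ∈ J ↔ a ⊗ₜ[k] (1 : B) ∈ I) {x : A ⊗[k] B} (hx : x ∈ I) :
    x ∈ LinearMap.range (J.subtype.rTensor B) := by
  classical
  let bQ := Module.Free.chooseBasis k (A ⧸ J)
  choose w hw using fun i => J.mkQ_surjective (bQ i)
  let e := TensorProduct.equivFinsuppOfBasisLeft (N := B) bQ
  let φ : _ → A ⊗[k] B := fun f : Module.Free.ChooseBasisIndex k (A ⧸ J) →₀ B => f.sum fun i b => w i ⊗ₜ[k] b
  have φ_sub : ∀ f g, φ (f - g) = φ f - φ g := fun f g => by
    simp only [φ]; rw [Finsupp.sum_sub_index]; intros; rw [TensorProduct.tmul_sub]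
  have φ_left : ∀ (c : B) f, φ (f.mapRange (c * ·) (mul_zero c)) = (1 ⊗ₜ c) * φ f := fun c f => by
    simp only [φ]
    rw [Finsupp.sum_mapRange_index (by simp), Finsupp.mul_sum]
    simp [Algebra.TensorProduct.tmul_mul_tmul]
  have φ_right : ∀ (c : B) f, φ (f.mapRange (· * c) (zero_mul c)) = φ f * (1 ⊗ₜ c) := fun c f => by
    simp only [φ]
    rw [Finsupp.sum_mapRange_index (by simp), Finsupp.sum_mul]
    simp [Algebra.TensorProduct.tmul_mul_tmul]
  have key : ∀ n : ℕ, ∀ f, f.support.card ≤ n → φ f ∈ I → f = 0 := by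
    intro n
    induction n with
    | zero => intro f hf _; simpa using hf
    | succ n ih =>
      intro f hf hfI
      by_contra hne
      obtain ⟨i₀, hi₀⟩ := Finsupp.support_nonempty_iff.mpr hne
      let T : Set B := {b | ∃ g, g.support ⊆ f.support ∧ φ g ∈ I ∧ g i₀ = b}
      let K : TwoSidedIdeal B := TwoSidedIdeal.mk' T
        ⟨0, by simp, by simpa [φ] using I.zero_mem, by simp⟩
        (by
          rintro x y ⟨g, hg, hgI, rfl⟩ ⟨g', hg', hgI', rfl⟩
          refine ⟨g + g', Finsupp.support_add.trans (Finset.union_subset hg hg'), ?_, by simp⟩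
          have : φ (g + g') = φ g + φ g' := by
            simp only [φ]; rw [Finsupp.sum_add_index'] <;> simp [TensorProduct.tmul_add]
          rw [this]; exact I.add_mem hgI hgI')
        (by
          rintro x ⟨g, hg, hgI, rfl⟩
          refine ⟨0 - g, ?_, ?_, by simp⟩
          · simpa using hg
          · rw [φ_sub]
            exact I.sub_mem (by simpa [φ] using I.zero_mem) hgI)
        (by
          rintro c x ⟨g, hg, hgI, rfl⟩
          exact ⟨_, Finsupp.support_mapRange.trans hg, (φ_left c g).symm ▸ I.mul_mem_left _ _ hgI,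
            by simp⟩)
        (by
          rintro x c ⟨g, hg, hgI, rfl⟩
          exact ⟨_, Finsupp.support_mapRange.trans hg, (φ_right c g).symm ▸ I.mul_mem_right _ _ hgI,
            by simp⟩)
      have h1 : (1 : B) ∈ K := IsSimpleRing.one_mem_of_ne_zero_mem K (Finsupp.mem_support_iff.mp hi₀)
        (by rw [TwoSidedIdeal.mem_mk']; exact ⟨f, subset_rfl, hfI, rfl⟩)
      rw [TwoSidedIdeal.mem_mk'] at h1
      obtain ⟨g, hg, hgI, hg1⟩ := h1
      have hcen : ∀ i c, c * g i = g i * c := by
        intro i c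
        have hz : (g.mapRange (c * ·) (mul_zero c) - g.mapRange (· * c) (zero_mul c)) = 0 := by
          refine ih _ ?_ ?_
          · have hsub : (g.mapRange (c * ·) (mul_zero c) - g.mapRange (· * c) (zero_mul c)).support
                ⊆ f.support.erase i₀ := by
              intro j hj
              rw [Finsupp.mem_support_iff] at hj
              rw [Finset.mem_erase]
              refine ⟨?_, hg (Finsupp.mem_support_iff.mpr fun h0 => hj (by simp [h0]))⟩
              rintro rfl
              exact hj (by simp [hg1])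
            have h2 := (Finset.card_le_card hsub)
            rw [Finset.card_erase_of_mem hi₀] at h2
            omega
          · rw [φ_sub, φ_left, φ_right]
            exact I.sub_mem (I.mul_mem_left _ _ hgI) (I.mul_mem_right _ _ hgI)
        simpa [sub_eq_zero] using DFunLike.congr_fun hz i
      have hr : ∀ i, g i ∈ Set.range (algebraMap k B) := fun i => by
        have hm : g i ∈ Subalgebra.center k B := Subalgebra.mem_center_iff.mpr (hcen i)
        rw [Algebra.IsCentral.center_eq_bot, Algebra.mem_bot] at hm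
        exact hm
      choose r hr using hr
      have ha : φ g = (∑ i ∈ g.support, r i • w i) ⊗ₜ 1 := by
        simp only [φ, Finsupp.sum, TensorProduct.sum_tmul]
        refine Finset.sum_congr rfl fun i _ => ?_
        rw [TensorProduct.smul_tmul, ← Algebra.algebraMap_eq_smul_one, hr]
      have h0 : ∑ i ∈ g.support, r i • bQ i = 0 := by
        have : J.mkQ (∑ i ∈ g.support, r i • w i) = 0 :=
          (Submodule.Quotient.mk_eq_zero J).mpr ((hJ _).mpr (ha ▸ hgI))
        simpa only [map_sum, map_smul, hw] using this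
      have hi : i₀ ∈ g.support := by
        rw [Finsupp.mem_support_iff, hg1]; exact one_ne_zero
      have : r i₀ = 0 := linearIndependent_iff'.mp bQ.linearIndependent _ _ h0 _ hi
      have := hr i₀
      simp [*] at this
  let f := e (J.mkQ.rTensor B x)
  have hφ : J.mkQ.rTensor B (φ f) = J.mkQ.rTensor B x := by
    conv_rhs => rw [← e.symm_apply_apply (J.mkQ.rTensor B x)]
    rw [TensorProduct.equivFinsuppOfBasisLeft_symm_apply]
    simp [φ, f, e, Finsupp.sum, hw, map_sum]
  obtain ⟨y, hy⟩ : x - φ f ∈ LinearMap.range (J.subtype.rTensor B) :=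
    (rTensor_exact B (LinearMap.exact_subtype_mkQ J) J.mkQ_surjective _).mp (by simp [hφ])
  have hJI : ∀ z, J.subtype.rTensor B z ∈ I := fun z => by
    induction z with
    | zero => simp [I.zero_mem]
    | tmul a b =>
      have : (a : A) ⊗ₜ[k] b = ((a : A) ⊗ₜ[k] (1 : B)) * ((1 : A) ⊗ₜ[k] b) := by simp
      rw [LinearMap.rTensor_tmul, Submodule.subtype_apply, this]
      exact I.mul_mem_right _ _ ((hJ _).mp a.2)
    | add a b ha hb => rw [map_add]; exact I.add_mem ha hb
  have hf0 : f = 0 := key _ f le_rfl <| by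
    have : φ f = x - J.subtype.rTensor B y := by rw [hy]; abel
    rw [this]
    exact I.sub_mem hx (hJI y)
  exact ⟨y, by rw [hy, hf0]; simp [φ]⟩

theorem eq_span_tmul_one [Algebra.IsCentral k B] [IsSimpleRing B] (I : TwoSidedIdeal (A ⊗[k] B)) :
    I = TwoSidedIdeal.span ((fun a : A => a ⊗ₜ[k] (1 : B)) '' {a : A | a ⊗ₜ[k] (1 : B) ∈ I}) := by
  refine le_antisymm (fun x hx => ?_) (TwoSidedIdeal.span_le.mpr ?_)
  · let J : Submodule k A :=
      { carrier := {a | a ⊗ₜ[k] (1 : B) ∈ I}
        add_mem' := fun ha hb => by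
          simpa [TensorProduct.add_tmul] using I.add_mem ha hb
        zero_mem' := by simp [I.zero_mem]
        smul_mem' := fun c a ha => by
          have h := I.mul_mem_left (algebraMap k (A ⊗[k] B) c) _ ha
          rw [← Algebra.smul_def] at h
          simpa [TensorProduct.smul_tmul'] using h }
    obtain ⟨y, rfl⟩ := twoSidedIdeal_le I J (fun a => Iff.rfl) hx
    clear hx
    induction y with
    | zero => simp [TwoSidedIdeal.zero_mem]
    | tmul a b =>
      have : (a : A) ⊗ₜ[k] b = ((a : A) ⊗ₜ[k] (1 : B)) * ((1 : A) ⊗ₜ[k] b) := by simp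
      rw [LinearMap.rTensor_tmul, Submodule.subtype_apply, this]
      exact TwoSidedIdeal.mul_mem_right _ _ _ (TwoSidedIdeal.subset_span ⟨a, a.2, rfl⟩)
    | add a b ha hb => rw [map_add]; exact TwoSidedIdeal.add_mem _ ha hb
  · rintro _ ⟨a, ha, rfl⟩
    exact ha

/-- `A ⊗ B` is simple for `A` simple and `B` central simple. -/
theorem isSimpleRing_tensor [IsSimpleRing A] [Algebra.IsCentral k B] [IsSimpleRing B] :
    IsSimpleRing (A ⊗[k] B) := by
  have hnt : Nontrivial (A ⊗[k] B) :=
    (Algebra.TensorProduct.includeLeft_injective (R := k) (S := k) (A := A) (B := B)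
      (FaithfulSMul.algebraMap_injective k B)).nontrivial
  refine IsSimpleRing.of_eq_bot_or_eq_top fun I => ?_
  by_cases h : ∀ a : A, a ⊗ₜ[k] (1 : B) ∈ I → a = 0
  · left
    rw [eq_span_tmul_one I, eq_bot_iff, TwoSidedIdeal.span_le]
    rintro _ ⟨a, ha, rfl⟩
    simp [h a ha]
  · right
    push_neg at h
    obtain ⟨a, ha, hne⟩ := h
    let J : TwoSidedIdeal A :=
      I.comap (Algebra.TensorProduct.includeLeft : A →ₐ[k] A ⊗[k] B)
    have h1 : (1 : A) ∈ J := IsSimpleRing.one_mem_of_ne_zero_mem J hne
      ((TwoSidedIdeal.mem_comap _).mpr ha)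
    rw [TwoSidedIdeal.mem_comap] at h1
    exact (TwoSidedIdeal.one_mem_iff I).mp (by simpa [Algebra.TensorProduct.one_def] using h1)

theorem isSimpleRing_tensor' [IsSimpleRing B] [Algebra.IsCentral k A] [IsSimpleRing A] :
    IsSimpleRing (A ⊗[k] B) :=
  have := isSimpleRing_tensor (k := k) (A := B) (B := A)
  .of_ringEquiv (Algebra.TensorProduct.comm k B A).toRingEquiv this

/-- Centre of a tensor product with a central algebra. -/
theorem mem_center_tensor [Algebra.IsCentral k B] [Nontrivial B] (x : A ⊗[k] B)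
    (hx : x ∈ Subalgebra.center k (A ⊗[k] B)) : ∃ a ∈ Subalgebra.center k A, x = a ⊗ₜ[k] 1 := by
  obtain ⟨a, rfl⟩ := mem_range_tmul_one_of_commute x fun c => Subalgebra.mem_center_iff.mp hx _
  refine ⟨a, Subalgebra.mem_center_iff.mpr fun b => ?_, rfl⟩
  have := Subalgebra.mem_center_iff.mp hx (b ⊗ₜ 1)
  simp only [Algebra.TensorProduct.tmul_mul_tmul, mul_one] at this
  exact Algebra.TensorProduct.includeLeft_injective (R := k) (S := k) (A := A) (B := B)
    (FaithfulSMul.algebraMap_injective k B) this

theorem isCentral_tensor [Algebra.IsCentral k A] [Algebra.IsCentral k B] [Nontrivial B] :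
    Algebra.IsCentral k (A ⊗[k] B) where
  out x hx := by
    obtain ⟨a, ha, rfl⟩ := mem_center_tensor x hx
    rw [Algebra.IsCentral.center_eq_bot, Algebra.mem_bot] at ha
    obtain ⟨c, rfl⟩ := ha
    exact ⟨c, rfl⟩

end Groth.Agent.Lib.CSA.Tensor
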